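import Cfsg.Agent.Lib.LocalEven.ProductFusion.Main
import Cfsg.Agent.Lib.Fusion.Transfer

/-!
# A Sylow 2-subgroup which is a product of two strongly closed subgroups
-/

set_option autoImplicit false
set_option linter.unusedSectionVars false
set_option linter.style.haveILetI false

namespace CfsgLib.LocalEven.ProductFusion

open Subgroup
open scoped commutatorElement

universe u

variable {G : Type u} [Group G] [Finite G] (S : Sylow 2 G) {S₁ S₂ : Subgroup G}

/-- Commuting, disjoint strongly closed subgroups of a Sylow 2-subgroup generate normal subgroups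
which commute modulo the odd core. -/
theorem commutator_normalClosure_le (h₁ : Cfsg.IsStronglyClosed S₁ (S : Subgroup G))
    (h₂ : Cfsg.IsStronglyClosed S₂ (S : Subgroup G)) (hc : ∀ a ∈ S₁, ∀ b ∈ S₂, a * b = b * a)
    (hd : S₁ ⊓ S₂ = ⊥) :
    ⁅normalClosure (S₁ : Set G), normalClosure (S₂ : Set G)⁆ ≤ Cfsg.oddCore G := by
  haveI := Involution.ZStar.oddCore_normal (G := G)
  have hp := Pair.of_stronglyClosed S h₁ h₂ hc hd
  set π := QuotientGroup.mk' (Cfsg.oddCore G) with hπ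
  set C := (centralizer (π '' {y : G | ∃ g : G, g * y * g⁻¹ ∈ S₂})).comap π with hC
  have h1 : normalClosure (S₁ : Set G) ≤ C := by
    rw [normalClosure, closure_le]
    intro x hx
    obtain ⟨s, hs, hsx⟩ := Group.mem_conjugatesOfSet_iff.1 hx
    obtain ⟨g, rfl⟩ := isConj_iff.1 hsx
    refine mem_centralizer_of ?_
    rintro _ ⟨y, hy, rfl⟩
    refine commutatorElement_eq_one_iff_commute.1 ?_
    rw [← map_commutatorElement]
    exact (QuotientGroup.eq_one_iff _).2 (hp.commutator_mem_oddCore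
      ⟨g⁻¹, by rwa [show g⁻¹ * (g * s * g⁻¹) * g⁻¹⁻¹ = s by group]⟩ hy)
  have h2 : normalClosure (S₂ : Set G) ≤
      (centralizer ((normalClosure (S₁ : Set G)).map π : Set _)).comap π := by
    rw [normalClosure, closure_le]
    intro y hy
    obtain ⟨s, hs, hsy⟩ := Group.mem_conjugatesOfSet_iff.1 hy
    obtain ⟨g, rfl⟩ := isConj_iff.1 hsy
    refine mem_centralizer_of ?_
    rintro _ ⟨x, hx, rfl⟩
    exact (commute_of_mem_centralizer (h1 hx) (s := π (g * s * g⁻¹))
      ⟨g * s * g⁻¹, ⟨g⁻¹, by rwa [show g⁻¹ * (g * s * g⁻¹) * g⁻¹⁻¹ = s by group]⟩, rfl⟩).symm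
  refine commutator_le.2 fun x hx y hy => (QuotientGroup.eq_one_iff _).1 ?_
  show π ⁅x, y⁆ = 1
  rw [map_commutatorElement]
  exact (commute_of_mem_centralizer (h2 hy) (s := π x) ⟨x, hx, rfl⟩).symm.commutator_eq

variable {S}

theorem inf_normalClosure_le (hO : Cfsg.oddCore G = ⊥)
    (hprod : Cfsg.IsInternalDirectProduct S₁ S₂ (S : Subgroup G))
    (h₁ : Cfsg.IsStronglyClosed S₁ (S : Subgroup G))
    (h₂ : Cfsg.IsStronglyClosed S₂ (S : Subgroup G)) :
    (S : Subgroup G) ⊓ normalClosure (S₁ : Set G) ≤ S₁ := by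
  haveI := Fact.mk Nat.prime_two
  obtain ⟨hS₁, hS₂, hc, hd, hsup⟩ := hprod
  set K := normalClosure (S₁ : Set G) with hK
  have hS₁K : S₁ ≤ K := fun x hx => subset_normalClosure hx
  have hS₂n : S₂ ≤ normalizer (S₁ : Set G) := fun b hb =>
    mem_normalizer_of_commute fun a ha => (show Commute a b from hc a ha b hb).symm
  set A := S₂ ⊓ K with hA
  have hcen : ∀ a ∈ A, ∀ g ∈ K, Commute a g := fun a ha g hg => by
    have := commutator_normalClosure_le S h₁ h₂ hc hd
      (commutator_mem_commutator hg (subset_normalClosure (mem_inf.1 ha).1))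
    rw [hO, Subgroup.mem_bot] at this
    exact (commutatorElement_eq_one_iff_commute.1 this).symm
  letI : CommGroup A :=
    { (inferInstance : Group A) with
      mul_comm := fun a b => Subtype.ext (hcen a a.2 b (mem_inf.1 b.2).2).eq }
  -- the Sylow subgroup of `K`
  let T : Sylow 2 K := Sylow.ofCard (((S : Subgroup G) ⊓ K).subgroupOf K) (by
    rw [Nat.card_congr (subgroupOfEquivOfLe inf_le_right).toEquiv,
      Coprime.card_sylow_inf_normal S K])
  have hT : ∀ t : K, t ∈ (T : Subgroup K) ↔ (t : G) ∈ S := fun t => by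
    show t ∈ ((S : Subgroup G) ⊓ K).subgroupOf K ↔ _
    simp [mem_subgroupOf]; exact Iff.rfl
  have hex : ∀ t : (T : Subgroup K), ∃ a : A, ((t : K) : G) * (a : G)⁻¹ ∈ S₁ := fun t => by
    have ht : ((t : K) : G) ∈ S₁ ⊔ S₂ := by rw [hsup]; exact (hT _).1 t.2
    obtain ⟨s, hs, b, hb, he⟩ := (Coprime.mem_sup_of_le_normalizer hS₂n).1 ht
    have hbK : b ∈ K := by
      have := mul_mem (inv_mem (hS₁K hs)) (t : K).2
      rwa [← he, inv_mul_cancel_left] at this
    exact ⟨⟨b, hb, hbK⟩, by simpa [← he] using hs⟩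
  choose f hf using hex
  have huniq : ∀ (x : G) (a b : A), x * (a : G)⁻¹ ∈ S₁ → x * (b : G)⁻¹ ∈ S₁ → a = b := by
    intro x a b ha hb
    have h3 : (a : G) * (b : G)⁻¹ ∈ S₁ ⊓ S₂ := mem_inf.2 ⟨by
      have := mul_mem (inv_mem ha) hb
      simpa [mul_assoc] using this, mul_mem (mem_inf.1 a.2).1 (inv_mem (mem_inf.1 b.2).1)⟩
    rw [hd, Subgroup.mem_bot, mul_inv_eq_one] at h3
    exact Subtype.ext h3
  let φ : (T : Subgroup K) →* A := MonoidHom.mk' f fun t t' =>
    huniq ((t * t' : (T : Subgroup K)) : K) _ _ (hf _) (by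
      have h3 := mul_mem (hf t) (hf t')
      have h4 : Commute (f t : G)⁻¹ ((t' : K) : G) :=
        (hcen _ (f t).2 _ (t' : K).2).inv_left
      have h5 : Commute (f t : G)⁻¹ (f t' : G)⁻¹ :=
        ((hcen _ (f t).2 _ (mem_inf.1 (f t').2).2).inv_left).inv_right
      simp only [coe_mul, mul_inv_rev]
      rwa [mul_assoc, ← h5.eq, ← mul_assoc ((t' : K) : G), ← h4.eq, mul_assoc (f t : G)⁻¹,
        ← mul_assoc])
  have key : ∀ (x : (T : Subgroup K)) (g : K) (hx : g⁻¹ * (x : K) * g ∈ (T : Subgroup K)),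
      φ ⟨_, hx⟩ = φ x := by
    intro x g hx
    refine huniq (((g⁻¹ * (x : K) * g : K)) : G) _ _ (hf ⟨_, hx⟩) ?_
    have h3 := hcen _ (f x).2 _ g.2
    have h4 : (((g⁻¹ * (x : K) * g : K)) : G) * (f x : G)⁻¹ =
        (g : G)⁻¹ * (((x : K) : G) * (f x : G)⁻¹) * (g : G) := by
      simp only [coe_mul, coe_inv, mul_assoc]
      rw [h3.inv_left.eq]
    show (((g⁻¹ * (x : K) * g : K)) : G) * (f x : G)⁻¹ ∈ S₁
    have h5 : (((g⁻¹ * (x : K) * g : K)) : G) * (f x : G)⁻¹ ∈ S :=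
      mul_mem ((hT _).1 hx) (inv_mem (hS₂ (mem_inf.1 (f x).2).1))
    rw [h4] at h5 ⊢
    have := h₁.2 _ (hf x) (g : G)⁻¹
    rw [inv_inv] at this
    exact this h5
  haveI : (T : Subgroup K).FiniteIndex := inferInstance
  set V := MonoidHom.transfer φ with hV
  have hone : ∀ t : (T : Subgroup K), ((t : K) : G) ∈ S₁ → φ t = 1 := fun t ht =>
    huniq ((t : K) : G) _ _ (hf t) (by simpa using ht)
  -- the transfer kills every conjugate of an element of `S₁`
  have hker : ∀ k : K, V k = 1 := by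
    suffices K ≤ V.ker.map K.subtype from fun k => by
      obtain ⟨k', hk', e⟩ := this k.2
      rwa [K.subtype_injective e] at hk'
    show closure (Group.conjugatesOfSet (S₁ : Set G)) ≤ _
    rw [closure_le]
    intro x hx
    obtain ⟨s, hs, hsx⟩ := Group.mem_conjugatesOfSet_iff.1 hx
    obtain ⟨g, rfl⟩ := isConj_iff.1 hsx
    have hxK : g * s * g⁻¹ ∈ K := normalClosure_normal.conj_mem s (hS₁K hs) g
    refine ⟨⟨_, hxK⟩, ?_, rfl⟩
    have hxp : IsPGroup 2 (zpowers (g * s * g⁻¹)) := by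
      have h3 := (S.2.to_le (zpowers_le.2 (hS₁ hs))).map (MulAut.conj g).toMonoidHom
      rwa [MonoidHom.map_zpowers] at h3
    obtain ⟨k, hk⟩ := Involution.Basic.exists_conj_le T
      (hxp.of_equiv (subgroupOfEquivOfLe (zpowers_le.2 hxK)).symm)
    have h4 := hk ⟨_, hxK⟩ (mem_subgroupOf.2 (mem_zpowers _))
    have h5 : ((k * ⟨_, hxK⟩ * k⁻¹ : K) : G) = (k : G) * g * s * ((k : G) * g)⁻¹ := by
      simp [mul_assoc]
    have h6 : ((k * ⟨_, hxK⟩ * k⁻¹ : K) : G) ∈ S₁ := h5 ▸ h₁.2 s hs _ (h5 ▸ (hT _).1 h4)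
    have h7 := Fusion.Transfer.transfer_eq_pow_of_invariant φ key ⟨_, h4⟩
    rw [hone ⟨_, h4⟩ h6, one_pow, map_mul, map_mul, map_inv, mul_inv_cancel_comm] at h7
    exact h7
  intro x hx
  obtain ⟨hxS, hxK⟩ := mem_inf.1 hx
  have hxT : (⟨x, hxK⟩ : K) ∈ (T : Subgroup K) := (hT _).2 hxS
  have h7 := Fusion.Transfer.transfer_eq_pow_of_invariant φ key ⟨_, hxT⟩
  rw [← hV, hker] at h7
  have h8 : φ ⟨_, hxT⟩ = 1 := by
    refine orderOf_eq_one_iff.1 (Nat.eq_one_of_dvd_coprimes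
      (((Nat.Prime.coprime_iff_not_dvd Nat.prime_two).2 T.not_dvd_index).pow_left
        ((Nat.card (T : Subgroup K)).factorization 2)).symm (orderOf_dvd_iff_pow_eq_one.2 h7.symm)
      ((orderOf_map_dvd φ _).trans ?_))
    obtain ⟨n, hn⟩ := T.2.exists_card_eq
    rw [hn, Nat.Prime.factorization_pow Nat.prime_two, Finsupp.single_eq_same, ← hn]
    exact Subgroup.orderOf_dvd_natCard _ (mem_top _) |>.trans (dvd_of_eq Subgroup.card_top)
  have := hf ⟨_, hxT⟩
  rw [show f ⟨_, hxT⟩ = 1 from h8] at this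
  simpa using this

/-- The group is the product of the normal closures of the two factors. -/
theorem exists_product (hO : Cfsg.oddCore G = ⊥)
    (hO' : ∀ N : Subgroup G, N.Normal → Odd N.index → N = ⊤)
    (hprod : Cfsg.IsInternalDirectProduct S₁ S₂ (S : Subgroup G))
    (h₁ : Cfsg.IsStronglyClosed S₁ (S : Subgroup G))
    (h₂ : Cfsg.IsStronglyClosed S₂ (S : Subgroup G)) :
    ∃ G₁ G₂ : Subgroup G, G₁.Normal ∧ G₂.Normal ∧ Cfsg.IsInternalDirectProduct G₁ G₂ ⊤ ∧
      S₁ ≤ G₁ ∧ S₂ ≤ G₂ ∧ (S : Subgroup G) ⊓ G₁ = S₁ ∧ (S : Subgroup G) ⊓ G₂ = S₂ ∧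
      Odd (S₁.relIndex G₁) ∧ Odd (S₂.relIndex G₂) := by
  haveI := Fact.mk Nat.prime_two
  obtain ⟨hS₁, hS₂, hc, hd, hsup⟩ := hprod
  have hprod' : Cfsg.IsInternalDirectProduct S₂ S₁ (S : Subgroup G) :=
    ⟨hS₂, hS₁, fun b hb a ha => (hc a ha b hb).symm, inf_comm S₁ S₂ ▸ hd, sup_comm S₁ S₂ ▸ hsup⟩
  set K₁ := normalClosure (S₁ : Set G)
  set K₂ := normalClosure (S₂ : Set G)
  have e₁ : (S : Subgroup G) ⊓ K₁ = S₁ :=
    le_antisymm (inf_normalClosure_le hO ⟨hS₁, hS₂, hc, hd, hsup⟩ h₁ h₂)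
      (le_inf hS₁ fun x hx => subset_normalClosure hx)
  have e₂ : (S : Subgroup G) ⊓ K₂ = S₂ :=
    le_antisymm (inf_normalClosure_le hO hprod' h₂ h₁)
      (le_inf hS₂ fun x hx => subset_normalClosure hx)
  have hodd : ∀ K : Subgroup G, K.Normal → Odd (((S : Subgroup G) ⊓ K).relIndex K) := by
    intro K hK
    haveI := hK
    have hc' := Coprime.card_sylow_inf_normal S K
    let T : Sylow 2 K := Sylow.ofCard (((S : Subgroup G) ⊓ K).subgroupOf K) (by
      rw [Nat.card_congr (subgroupOfEquivOfLe inf_le_right).toEquiv, hc'])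
    exact Nat.not_even_iff_odd.1 fun he => T.not_dvd_index he.two_dvd
  refine ⟨K₁, K₂, normalClosure_normal, normalClosure_normal, ⟨le_top, le_top, ?_, ?_, ?_⟩,
    fun x hx => subset_normalClosure hx, fun x hx => subset_normalClosure hx, e₁, e₂,
    e₁ ▸ hodd K₁ normalClosure_normal, e₂ ▸ hodd K₂ normalClosure_normal⟩
  · intro a ha b hb
    have := commutator_normalClosure_le S h₁ h₂ hc hd (commutator_mem_commutator ha hb)
    rw [hO, Subgroup.mem_bot] at this
    exact commutatorElement_eq_one_iff_commute.1 this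
  · have h3 := hodd (K₁ ⊓ K₂) inferInstance
    have h4 : (S : Subgroup G) ⊓ (K₁ ⊓ K₂) = ⊥ := by
      rw [eq_bot_iff, ← hd, ← e₁, ← e₂]
      exact le_inf (inf_le_inf_left _ inf_le_left) (inf_le_inf_left _ inf_le_right)
    rw [h4, relIndex_bot_left] at h3
    rw [eq_bot_iff, ← hO]
    exact Involution.ZStar.le_oddCore inferInstance h3
  · refine hO' _ (sup_normal K₁ K₂) ?_
    refine Nat.not_even_iff_odd.1 fun he => S.not_dvd_index ?_
    refine he.two_dvd.trans (index_dvd_of_le ?_)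
    rw [← hsup]
    exact sup_le_sup (fun x hx => subset_normalClosure hx) fun x hx => subset_normalClosure hx

end CfsgLib.LocalEven.ProductFusion
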