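import Cfsg.Agent.Lib.LocalEven.ProductFusion.Basic
import Cfsg.Agent.Lib.Coprime.Sylow
import Cfsg.Agent.Lib.Coprime.Abelian
import Cfsg.Agent.Lib.Fusion.Transfer
import Mathlib.GroupTheory.Nilpotent

/-!
# A lemma on coprime action of a non-cyclic abelian group

`C ∩ ⁅V, K⁆` is controlled by the `C ∩ ⁅C_V(k), K⁆`, where `C = C_V(K)`.
-/

set_option autoImplicit false
set_option linter.unusedSectionVars false
set_option linter.style.haveILetI false

namespace CfsgLib.LocalEven.ProductFusion

open Subgroup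
open scoped commutatorElement

universe u

variable {G : Type u} [Group G] [Finite G]

section Quot

variable (M : Subgroup G)

/-- The image of a subgroup in `N(M)/M`. -/
def quotImage (S : Subgroup G) :
    Subgroup (↥(normalizer (M : Set G)) ⧸ M.subgroupOf (normalizer (M : Set G))) :=
  (S.subgroupOf (normalizer (M : Set G))).map (QuotientGroup.mk' _)

variable {M}

local notation "mkM" => QuotientGroup.mk' (M.subgroupOf (normalizer (M : Set G)))

theorem mem_quotImage {S : Subgroup G}
    {q : ↥(normalizer (M : Set G)) ⧸ M.subgroupOf (normalizer (M : Set G))} :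
    q ∈ quotImage M S ↔ ∃ s : ↥(normalizer (M : Set G)), (s : G) ∈ S ∧ mkM s = q :=
  Iff.rfl

theorem mk_eq_mk_iff {s t : ↥(normalizer (M : Set G))} :
    mkM s = mkM t ↔ (s : G)⁻¹ * t ∈ M :=
  QuotientGroup.eq.trans mem_subgroupOf

theorem commutatorElement_mk_eq_one {s t : ↥(normalizer (M : Set G))} :
    ⁅mkM s, mkM t⁆ = 1 ↔ ⁅(s : G), (t : G)⁆ ∈ M := by
  rw [← map_commutatorElement]
  refine (QuotientGroup.eq_one_iff _).trans (mem_subgroupOf.trans ?_)
  simp [commutatorElement_def]

theorem quotImage_mono {S T : Subgroup G} (h : S ≤ T) : quotImage M S ≤ quotImage M T :=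
  Subgroup.map_mono fun _ hx => h hx

theorem quotImage_commutator {S T : Subgroup G} (hS : S ≤ normalizer (M : Set G))
    (hT : T ≤ normalizer (M : Set G)) :
    ⁅quotImage M S, quotImage M T⁆ = quotImage M ⁅S, T⁆ := by
  rw [quotImage, quotImage, ← Subgroup.map_commutator]
  refine congrArg (Subgroup.map _) (map_injective (normalizer (M : Set G)).subtype_injective ?_)
  rw [Subgroup.map_commutator, subgroupOf_map_subtype, subgroupOf_map_subtype,
    subgroupOf_map_subtype, inf_eq_left.2 hS, inf_eq_left.2 hT,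
    inf_eq_left.2 ((commutator_mono hS hT).trans
      (commutator_le.2 fun a ha b hb => by
        rw [commutatorElement_def]
        exact mul_mem (mul_mem (mul_mem ha hb) (inv_mem ha)) (inv_mem hb)))]

theorem card_quotImage_dvd {S : Subgroup G} (hS : S ≤ normalizer (M : Set G)) :
    Nat.card (quotImage M S) ∣ Nat.card S := by
  refine (card_map_dvd _ _).trans ?_
  rw [Nat.card_congr (subgroupOfEquivOfLe hS).toEquiv]

theorem isSolvable_quotImage {S : Subgroup G} (hS : S ≤ normalizer (M : Set G))
    (hs : Group.IsSolvable S) : Group.IsSolvable (quotImage M S) := by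
  have := hs
  have : Group.IsSolvable ↥(S.subgroupOf (normalizer (M : Set G))) :=
    Group.isSolvable_of_isSolvable_injective (f := (subgroupOfEquivOfLe hS).toMonoidHom)
      (subgroupOfEquivOfLe hS).injective
  exact Group.isSolvable_of_surjective
    (MonoidHom.subgroupMap_surjective (QuotientGroup.mk' _) _)

theorem card_quotImage_lt {V : Subgroup G} (hMV : M ≤ V) (hM : M ≠ ⊥)
    (hV : V ≤ normalizer (M : Set G)) : Nat.card (quotImage M V) < Nat.card V := by
  rw [← Nat.card_congr (subgroupOfEquivOfLe hV).toEquiv]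
  set V' := V.subgroupOf (normalizer (M : Set G))
  have hsur := MonoidHom.subgroupMap_surjective
    (QuotientGroup.mk' (M.subgroupOf (normalizer (M : Set G)))) V'
  refine Nat.lt_of_le_of_ne (Nat.card_le_card_of_surjective _ hsur) fun he => hM ?_
  have hinj := ((Nat.bijective_iff_surjective_and_card _).2 ⟨hsur, he.symm⟩).1
  rw [eq_bot_iff]
  intro m hm
  have hmN : m ∈ normalizer (M : Set G) := Subgroup.le_normalizer hm
  have := @hinj ⟨⟨m, hmN⟩, hMV hm⟩ 1 (Subtype.ext
    ((QuotientGroup.eq_one_iff _).2 (mem_subgroupOf.2 hm)))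
  exact Subgroup.mem_bot.2 (congrArg (fun z : V' => ((z : ↥(normalizer (M : Set G))) : G)) this)

/-- Coprime lifting of fixed points to `N(M)/M`. -/
theorem exists_fixed_lift {B V : Subgroup G} (hB : B ≤ normalizer (M : Set G))
    (hMV : M ≤ V) (hV : V ≤ normalizer (M : Set G))
    (hcop : (Nat.card B).Coprime (Nat.card M)) (hsolv : Group.IsSolvable B)
    {s : ↥(normalizer (M : Set G))} (hs : (s : G) ∈ V)
    (hfix : ∀ b : ↥(normalizer (M : Set G)), (b : G) ∈ B → Commute (mkM b) (mkM s)) :
    ∃ t : ↥(normalizer (M : Set G)), (t : G) ∈ V ⊓ centralizer (B : Set G) ∧ mkM t = mkM s := by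
  obtain ⟨c, hc, hcM⟩ := Coprime.exists_centralizer_inv_mul_mem hB hMV hV hcop (.inl hsolv) hs
    (fun b hb => commutatorElement_mk_eq_one.1 ((hfix ⟨b, hB hb⟩ hb).commutator_eq))
  exact ⟨⟨c, hV (mem_inf.1 hc).1⟩, hc, (mk_eq_mk_iff.2 hcM).symm⟩

/-- An abelian group of order prime to `M` maps isomorphically. -/
theorem quotImage_abelian {K : Subgroup G} [hK : IsMulCommutative K]
    (hKM : K ≤ normalizer (M : Set G)) (hcop : (Nat.card K).Coprime (Nat.card M))
    (hnc : ¬ IsCyclic K) :
    IsMulCommutative (quotImage M K) ∧ ¬ IsCyclic (quotImage M K) := by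
  refine ⟨⟨⟨fun a b => Subtype.ext ?_⟩⟩, fun hc => hnc ?_⟩
  · obtain ⟨s, hs, hsa⟩ := a.2
    obtain ⟨t, ht, htb⟩ := b.2
    show (a : ↥(normalizer (M : Set G)) ⧸ M.subgroupOf (normalizer (M : Set G))) * b = b * a
    rw [← hsa, ← htb, ← map_mul, ← map_mul]
    exact congrArg _ (Subtype.ext (setLike_mul_comm (s := K) (show (s : G) ∈ K from hs) (show (t : G) ∈ K from ht)))
  · let f : K →* quotImage M K :=
      ((QuotientGroup.mk' (M.subgroupOf (normalizer (M : Set G)))).comp (inclusion hKM)).codRestrict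
        _ fun k => ⟨inclusion hKM k, k.2, rfl⟩
    refine isCyclic_of_injective f ((injective_iff_map_eq_one f).2 fun k hk => ?_)
    have h1 : (k : G) ∈ K ⊓ M := mem_inf.2
      ⟨k.2, mem_subgroupOf.1 ((QuotientGroup.eq_one_iff (inclusion hKM k)).1 (congrArg Subtype.val hk))⟩
    rw [(disjoint_of_coprime_natCard hcop).eq_bot, Subgroup.mem_bot] at h1
    exact Subtype.ext h1

end Quot

theorem mem_normalizer_commutator_left {U K : Subgroup G} {g : G} (hg : g ∈ U) :
    g ∈ normalizer ((⁅U, K⁆ : Subgroup G) : Set G) :=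
  normalizer_commutator_ge_left U K hg

theorem normalizer_le_lowerCentralSeries (V : Subgroup G) :
    ∀ n, normalizer (V : Set G) ≤ normalizer (V.lowerCentralSeries n : Set G)
  | 0 => le_rfl
  | n + 1 => fun g hg => mem_normalizer_of_conj (by
      rw [Subgroup.lowerCentralSeries_succ]
      exact conj_mem_commutator
        (fun x hx => conj_mem_of_mem_normalizer (normalizer_le_lowerCentralSeries V n hg) hx)
        (fun x hx => conj_mem_of_mem_normalizer hg hx))

/-- If `⁅V, K⁆ = V` then `C_V(K)` lies in the derived group. -/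
theorem centralizer_le_derived {K V : Subgroup G} [IsMulCommutative K]
    (hKV : K ≤ normalizer (V : Set G)) (hcop : (Nat.card K).Coprime (Nat.card V))
    (hfull : ⁅V, K⁆ = V) : V ⊓ centralizer (K : Set G) ≤ ⁅V, V⁆ := by
  set M := ⁅V, V⁆ with hMdef
  have hMV : M ≤ V := (commutator_le.2 fun a ha b hb => by
    rw [commutatorElement_def]
    exact mul_mem (mul_mem (mul_mem ha hb) (inv_mem ha)) (inv_mem hb))
  have hn : normalizer (V : Set G) ≤ normalizer (M : Set G) := fun g hg =>
    mem_normalizer_of_conj (conj_mem_commutator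
      (fun x hx => conj_mem_of_mem_normalizer hg hx) (fun x hx => conj_mem_of_mem_normalizer hg hx))
  have hVM : V ≤ normalizer (M : Set G) := Subgroup.le_normalizer.trans hn
  have hKM : K ≤ normalizer (M : Set G) := hKV.trans hn
  haveI hab : IsMulCommutative (quotImage M V) := ⟨⟨fun a b => Subtype.ext (by
    obtain ⟨s, hs, hsa⟩ := a.2
    obtain ⟨t, ht, htb⟩ := b.2
    show (a : ↥(normalizer (M : Set G)) ⧸ M.subgroupOf (normalizer (M : Set G))) * b = b * a
    rw [← hsa, ← htb]
    exact commutatorElement_eq_one_iff_commute.1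
      (commutatorElement_mk_eq_one.2 (commutator_mem_commutator hs ht)))⟩⟩
  have hKV' : quotImage M K ≤ normalizer (quotImage M V : Set _) := by
    rintro _ ⟨k, hk, rfl⟩
    refine mem_normalizer_of_conj ?_
    rintro _ ⟨v, hv, rfl⟩
    exact ⟨k * v * k⁻¹, show (k : G) * v * (k : G)⁻¹ ∈ V from conj_mem_of_mem_normalizer (hKV hk) hv,
      by simp⟩
  have hcop' : (Nat.card ↥(quotImage M K)).Coprime (Nat.card ↥(quotImage M V)) :=
    (hcop.coprime_dvd_left (card_quotImage_dvd hKM)).coprime_dvd_right (card_quotImage_dvd hVM)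
  intro c hc
  obtain ⟨hcV, hcK⟩ := mem_inf.1 hc
  have h1 : QuotientGroup.mk' (M.subgroupOf (normalizer (M : Set G))) ⟨c, hVM hcV⟩ ∈
      (quotImage M V ⊓ centralizer (quotImage M K : Set _)) ⊓ ⁅quotImage M V, quotImage M K⁆ := by
    refine mem_inf.2 ⟨mem_inf.2 ⟨⟨⟨c, hVM hcV⟩, hcV, rfl⟩, mem_centralizer_of ?_⟩, ?_⟩
    · rintro _ ⟨k, hk, rfl⟩
      exact (show Commute (⟨c, hVM hcV⟩ : ↥(normalizer (M : Set G))) k from
        Subtype.ext (commute_of_mem_centralizer hcK hk).eq).map _
    · rw [quotImage_commutator hVM hKM, hfull]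
      exact ⟨⟨c, hVM hcV⟩, hcV, rfl⟩
  rw [Coprime.centralizer_inf_commutator_eq_bot hKV' hcop', Subgroup.mem_bot] at h1
  exact mem_subgroupOf.1 ((QuotientGroup.eq_one_iff _).1 h1)

/-- Hypotheses of the lemma. -/
structure FourData (K V Z : Subgroup G) : Prop where
  comm : IsMulCommutative K
  noncyclic : ¬ IsCyclic K
  inv : K ≤ normalizer (V : Set G)
  cop : (Nat.card K).Coprime (Nat.card V)
  solv : Group.IsSolvable V
  le : Z ≤ V ⊓ centralizer (K : Set G)
  nrm : V ⊓ centralizer (K : Set G) ≤ normalizer (Z : Set G)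
  small : ∀ k ∈ K, k ≠ 1 →
    V ⊓ centralizer (K : Set G) ⊓ ⁅V ⊓ centralizer {k}, K⁆ ≤ Z

namespace FourData

variable {K V Z : Subgroup G}

theorem commute_mem (h : FourData K V Z) {a b : G} (ha : a ∈ K) (hb : b ∈ K) : Commute a b :=
  haveI := h.comm
  setLike_mul_comm ha hb

theorem isSolvable_K (h : FourData K V Z) : Group.IsSolvable K :=
  haveI := h.comm
  Group.isSolvable_of_comm fun a b => mul_comm' a b

theorem inv_fixed (h : FourData K V Z) {k : G} (hk : k ∈ K) :
    K ≤ normalizer ((V ⊓ centralizer {k} : Subgroup G) : Set G) :=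
  (le_inf h.inv (show K ≤ normalizer (centralizer {k} : Set G) from fun a ha =>
    Subgroup.le_normalizer (mem_centralizer_singleton.2 (h.commute_mem ha hk)))).trans
    inf_normalizer_le_normalizer_inf

theorem step_proper (h : FourData K V Z) :
    FourData K ⁅V, K⁆ (Z ⊓ ⁅V, K⁆) := by
  have hle : ⁅V, K⁆ ≤ V := le_normalizer_iff_commutator_le_left.1 h.inv
  refine ⟨h.comm, h.noncyclic, normalizer_commutator_ge_right V K,
    Coprime.coprime_of_le h.cop le_rfl hle, Coprime.isSolvable_of_le hle h.solv,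
    le_inf inf_le_right (inf_le_left.trans (h.le.trans inf_le_right)), ?_, fun k hk hk1 => ?_⟩
  · exact ((le_inf ((inf_le_inf_right _ hle).trans h.nrm)
      (inf_le_left.trans Subgroup.le_normalizer))).trans inf_normalizer_le_normalizer_inf
  · refine le_inf ((le_inf (inf_le_left.trans (inf_le_inf_right _ hle)) ?_).trans
      (h.small k hk hk1)) (inf_le_left.trans inf_le_left)
    exact inf_le_right.trans (commutator_mono (inf_le_inf_right _ hle) le_rfl)

/-- When `⁅V, K⁆ = V`, the group is generated by the `⁅C_V(k), K⁆`. -/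
theorem le_iSup_pieces (h : FourData K V Z) (hfull : ⁅V, K⁆ = V) :
    V ≤ ⨆ k ∈ {k : G | k ∈ K ∧ k ≠ 1}, ⁅V ⊓ centralizer {k}, K⁆ := by
  haveI := h.comm
  set N := ⨆ k ∈ {k : G | k ∈ K ∧ k ≠ 1}, ⁅V ⊓ centralizer {k}, K⁆ with hN
  set C := V ⊓ centralizer (K : Set G)
  have hKN : ∀ g ∈ normalizer (V : Set G), (∀ k ∈ K, Commute g k) ∨ g ∈ K →
      g ∈ normalizer (N : Set G) := by
    intro g hgV hg
    refine mem_normalizer_of_conj (conj_mem_iSup fun k => conj_mem_iSup fun hk x hx => ?_)
    have hgk : Commute g k := hg.elim (fun f => f k hk.1) fun f => h.commute_mem f hk.1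
    refine le_iSup₂ (f := fun k (_ : k ∈ {k : G | k ∈ K ∧ k ≠ 1}) =>
      ⁅V ⊓ centralizer {k}, K⁆) k hk (conj_mem_commutator ?_ ?_ x hx)
    · refine fun v hv => mem_inf.2 ⟨conj_mem_of_mem_normalizer hgV (mem_inf.1 hv).1, ?_⟩
      have h1 := (mem_centralizer_singleton.1 (mem_inf.1 hv).2).map (MulAut.conj g).toMonoidHom
      refine mem_centralizer_singleton.2 ?_
      simpa [hgk.eq] using h1
    · intro a ha
      rcases hg with f | f
      · rwa [(f a ha).eq, mul_inv_cancel_right]
      · exact mul_mem (mul_mem f ha) (inv_mem f)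
  have hgen : V ≤ N ⊔ C := by
    conv_lhs => rw [← Coprime.iSup_centralizer_singleton h.noncyclic h.inv h.cop]
    refine iSup₂_le fun k hk => ?_
    conv_lhs => rw [← Coprime.commutator_sup_centralizer (A := K) (h.inv_fixed hk.1)
      (Coprime.coprime_of_le h.cop le_rfl inf_le_left) (.inl h.isSolvable_K)]
    exact sup_le_sup (le_iSup₂ (f := fun k (_ : k ∈ {k : G | k ∈ K ∧ k ≠ 1}) =>
      ⁅V ⊓ centralizer {k}, K⁆) k hk) (inf_le_inf_right _ inf_le_left)
  conv_lhs => rw [← hfull]
  exact commutator_le_of_decomp hgen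
    (fun c hc => hKN c (Subgroup.le_normalizer (mem_inf.1 hc).1)
      (.inl fun k hk => commute_of_mem_centralizer (mem_inf.1 hc).2 hk))
    (fun k hk => hKN k (h.inv hk) (.inr hk))
    (fun c hc k hk => commute_of_mem_centralizer (mem_inf.1 hc).2 hk)

/-- The candidate subgroup inside an abelian invariant `M`. -/
def core (K Z M : Subgroup G) : Subgroup G := (Z ⊓ M) ⊔ ⁅M, K⁆

theorem piece_inf_le (h : FourData K V Z) {M : Subgroup G} [IsMulCommutative M]
    (hKM : K ≤ normalizer (M : Set G)) {k : G} (hk : k ∈ K) (hk1 : k ≠ 1) :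
    ⁅V ⊓ centralizer {k}, K⁆ ⊓ M ≤ core K Z M := by
  set E := ⁅V ⊓ centralizer {k}, K⁆ ⊓ M with hE
  have hEV : E ≤ V := inf_le_left.trans
    ((le_normalizer_iff_commutator_le_left.1 (h.inv_fixed hk)).trans inf_le_left)
  conv_lhs => rw [← Coprime.commutator_sup_centralizer (A := K) (K := E)
    ((le_inf (normalizer_commutator_ge_right _ K) hKM).trans inf_normalizer_le_normalizer_inf)
    (Coprime.coprime_of_le h.cop le_rfl hEV) (.inl h.isSolvable_K)]
  refine sup_le ((commutator_mono inf_le_right le_rfl).trans le_sup_right) (fun c hc => ?_)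
  obtain ⟨hcE, hcK⟩ := mem_inf.1 hc
  exact mem_sup_left (mem_inf.2
    ⟨h.small k hk hk1 (mem_inf.2 ⟨mem_inf.2 ⟨hEV hcE, hcK⟩, (mem_inf.1 hcE).1⟩),
      (mem_inf.1 hcE).2⟩)

theorem core_inf_le (h : FourData K V Z) {M : Subgroup G} [IsMulCommutative M] (hMV : M ≤ V)
    (hKM : K ≤ normalizer (M : Set G)) : core K Z M ⊓ centralizer (K : Set G) ≤ Z := by
  intro x hx
  obtain ⟨hxU, hxK⟩ := mem_inf.1 hx
  have hle : ⁅M, K⁆ ≤ M := le_normalizer_iff_commutator_le_left.1 hKM
  obtain ⟨z, hz, e, he, rfl⟩ := (Coprime.mem_sup_of_le_normalizer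
    (fun e he => mem_normalizer_of_commute fun a ha =>
      setLike_mul_comm (hle he) (mem_inf.1 ha).2)).1 hxU
  have heK : e ∈ centralizer (K : Set G) := by
    have := mul_mem (inv_mem (mem_inf.1 (h.le (mem_inf.1 hz).1)).2) hxK
    simpa [← mul_assoc] using this
  have h1 : e ∈ (M ⊓ centralizer (K : Set G)) ⊓ ⁅M, K⁆ := mem_inf.2 ⟨mem_inf.2 ⟨hle he, heK⟩, he⟩
  rw [Coprime.centralizer_inf_commutator_eq_bot hKM (Coprime.coprime_of_le h.cop le_rfl hMV),
    Subgroup.mem_bot] at h1
  rw [h1, mul_one]
  exact (mem_inf.1 hz).1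

end FourData

open FourData

theorem four_lemma_aux (n : ℕ) : ∀ (G : Type u) [Group G] [Finite G] (K V Z : Subgroup G),
    Nat.card V = n → FourData K V Z → V ⊓ centralizer (K : Set G) ⊓ ⁅V, K⁆ ≤ Z := by
  induction n using Nat.strong_induction_on with
  | _ n ih =>
  intro G _ _ K V Z hcard h
  subst hcard
  haveI := h.comm
  have hle : ⁅V, K⁆ ≤ V := le_normalizer_iff_commutator_le_left.1 h.inv
  rcases hle.lt_or_eq with hlt | hfull
  · have h' := ih _ (Nat.lt_of_le_of_ne (Nat.le_of_dvd Nat.card_pos (card_dvd_of_le hle))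
      fun e => hlt.ne (eq_of_le_of_card_ge hle e.ge)) G K _ _ rfl h.step_proper
    intro c hc
    refine (mem_inf.1 (h' ?_)).1
    rw [Coprime.commutator_commutator_self h.inv h.cop (.inl h.isSolvable_K)]
    exact mem_inf.2 ⟨mem_inf.2 ⟨(mem_inf.1 hc).2, (mem_inf.1 (mem_inf.1 hc).1).2⟩,
      (mem_inf.1 hc).2⟩
  · suffices hC : V ⊓ centralizer (K : Set G) ≤ Z from inf_le_left.trans hC
    set C := V ⊓ centralizer (K : Set G) with hCdef
    by_cases habV : IsMulCommutative V
    · intro c hc
      have h1 : c ∈ (V ⊓ centralizer (K : Set G)) ⊓ ⁅V, K⁆ :=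
        mem_inf.2 ⟨hc, by rw [hfull]; exact (mem_inf.1 hc).1⟩
      rw [Coprime.centralizer_inf_commutator_eq_bot h.inv h.cop, Subgroup.mem_bot] at h1
      rw [h1]; exact one_mem _
    -- reduction modulo an invariant normal subgroup
    have hquot : ∀ M : Subgroup G, M ≠ ⊥ → M ≤ V → V ≤ normalizer (M : Set G) →
        K ≤ normalizer (M : Set G) → ∀ c ∈ C, ∃ z ∈ Z, z⁻¹ * c ∈ M := by
      intro M hM hMV hVM hKM c hc
      have hcopM := Coprime.coprime_of_le h.cop (le_refl K) hMV
      obtain ⟨hKab, hKnc⟩ := quotImage_abelian hKM hcopM h.noncyclic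
      have hfix : ∀ s : ↥(normalizer (M : Set G)), (s : G) ∈ V →
          QuotientGroup.mk' (M.subgroupOf (normalizer (M : Set G))) s ∈
            centralizer (quotImage M K : Set _) →
          ∃ t : ↥(normalizer (M : Set G)), (t : G) ∈ C ∧
            QuotientGroup.mk' (M.subgroupOf (normalizer (M : Set G))) t =
              QuotientGroup.mk' _ s := fun s hs hsK =>
        exists_fixed_lift hKM hMV hVM hcopM h.isSolvable_K hs fun b hb =>
          (commute_of_mem_centralizer hsK ⟨b, hb, rfl⟩).symm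
      have hd : FourData (quotImage M K) (quotImage M V) (quotImage M Z) := by
        refine ⟨hKab, hKnc, ?_,
          (h.cop.coprime_dvd_left (card_quotImage_dvd hKM)).coprime_dvd_right
            (card_quotImage_dvd hVM), isSolvable_quotImage hVM h.solv, ?_, ?_, ?_⟩
        · rintro _ ⟨k, hk, rfl⟩
          refine mem_normalizer_of_conj ?_
          rintro _ ⟨v, hv, rfl⟩
          exact ⟨k * v * k⁻¹, show (k : G) * v * (k : G)⁻¹ ∈ V from
            conj_mem_of_mem_normalizer (h.inv hk) hv, by simp⟩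
        · rintro _ ⟨z, hz, rfl⟩
          refine mem_inf.2 ⟨⟨z, (mem_inf.1 (h.le hz)).1, rfl⟩, mem_centralizer_of ?_⟩
          rintro _ ⟨k, hk, rfl⟩
          exact (show Commute z k from
            Subtype.ext (commute_of_mem_centralizer (mem_inf.1 (h.le hz)).2 hk).eq).map _
        · intro q hq
          obtain ⟨⟨s, hs, rfl⟩, hsK⟩ := mem_inf.1 hq
          obtain ⟨t, ht, hte⟩ := hfix s hs hsK
          rw [← hte]
          refine mem_normalizer_of_conj ?_
          rintro _ ⟨z, hz, rfl⟩
          exact ⟨t * z * t⁻¹, show (t : G) * z * (t : G)⁻¹ ∈ Z from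
            conj_mem_of_mem_normalizer (h.nrm ht) hz, by simp⟩
        · rintro _ ⟨k, hk, rfl⟩ hk1
          have hk1' : (k : G) ≠ 1 := fun e => hk1 (by rw [show k = 1 from Subtype.ext e, map_one])
          have hfixk : quotImage M V ⊓ centralizer {QuotientGroup.mk' _ k} ≤
              quotImage M (V ⊓ centralizer {(k : G)}) := by
            intro q hq
            obtain ⟨⟨s, hs, rfl⟩, hsk⟩ := mem_inf.1 hq
            obtain ⟨t, ht, hte⟩ := exists_fixed_lift (B := zpowers (k : G)) (zpowers_le.2 k.2)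
              hMV hVM (Coprime.coprime_of_le h.cop (zpowers_le.2 hk) hMV)
              (Coprime.isSolvable_zpowers _) hs fun b hb => by
                obtain ⟨i, hi⟩ := mem_zpowers_iff.1 hb
                rw [show b = k ^ i from Subtype.ext (by rw [← hi]; simp), map_zpow]
                exact (mem_centralizer_singleton.1 hsk).symm.zpow_left i
            exact ⟨t, mem_inf.2 ⟨(mem_inf.1 ht).1, mem_centralizer_singleton.2
              (commute_of_mem_centralizer (mem_inf.1 ht).2 (mem_zpowers _))⟩, hte⟩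
          intro q hq
          obtain ⟨hqC, hqW⟩ := mem_inf.1 hq
          have h1 := commutator_mono hfixk (le_refl (quotImage M K)) hqW
          rw [quotImage_commutator (inf_le_left.trans hVM) hKM] at h1
          obtain ⟨w, hw, rfl⟩ := h1
          set W := ⁅V ⊓ centralizer {(k : G)}, K⁆ with hW
          have hWV : W ≤ V :=
            (le_normalizer_iff_commutator_le_left.1 (h.inv_fixed hk)).trans inf_le_left
          obtain ⟨d, hd', hdM⟩ := Coprime.exists_centralizer_inv_mul_mem (A := K) (K := W)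
            (N := W ⊓ M)
            ((le_inf (normalizer_commutator_ge_right _ K) hKM).trans
              inf_normalizer_le_normalizer_inf) inf_le_left
            ((le_inf Subgroup.le_normalizer (hWV.trans hVM)).trans
              inf_normalizer_le_normalizer_inf)
            (Coprime.coprime_of_le hcopM le_rfl inf_le_right) (.inl h.isSolvable_K)
            (k := (w : G)) hw fun b hb => by
              refine mem_inf.2 ⟨?_, ?_⟩
              · rw [commutatorElement_def]
                exact mul_mem (conj_mem_of_mem_normalizer (normalizer_commutator_ge_right _ K hb)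
                  hw) (inv_mem hw)
              · exact commutatorElement_mk_eq_one.1 (commute_of_mem_centralizer
                  (s := QuotientGroup.mk' _ (⟨b, hKM hb⟩ : ↥(normalizer (M : Set G))))
                  (mem_inf.1 hqC).2 ⟨_, hb, rfl⟩).symm.commutator_eq
          obtain ⟨hdW, hdK⟩ := mem_inf.1 hd'
          refine ⟨⟨d, hVM (hWV hdW)⟩,
            h.small k hk hk1' (mem_inf.2 ⟨mem_inf.2 ⟨hWV hdW, hdK⟩, hdW⟩), ?_⟩
          exact (mk_eq_mk_iff.2 (mem_inf.1 hdM).2).symm
      obtain ⟨hcV, hcK⟩ := mem_inf.1 hc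
      obtain ⟨z, hz, hze⟩ := ih _ (card_quotImage_lt hMV hM hVM) _ _ _ _ rfl hd
        (x := QuotientGroup.mk' _ (⟨c, hVM hcV⟩ : ↥(normalizer (M : Set G))))
        (by
          refine mem_inf.2 ⟨mem_inf.2 ⟨⟨_, hcV, rfl⟩, mem_centralizer_of ?_⟩, ?_⟩
          · rintro _ ⟨k, hk, rfl⟩
            exact (show Commute (⟨c, hVM hcV⟩ : ↥(normalizer (M : Set G))) k from
              Subtype.ext (commute_of_mem_centralizer hcK hk).eq).map _
          · rw [quotImage_commutator hVM hKM, hfull]
            exact ⟨_, hcV, rfl⟩)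
      exact ⟨z, hz, mk_eq_mk_iff.1 hze⟩
    have hgen := h.le_iSup_pieces hfull
    by_cases hp : ∃ p : ℕ, p.Prime ∧ IsPGroup p V
    · -- the nilpotent case
      obtain ⟨p, hpp, hpV⟩ := hp
      haveI := Fact.mk hpp
      haveI := hpV.isNilpotent
      have hex : ∃ n, V.lowerCentralSeries n = ⊥ :=
        (Subgroup.isNilpotent_iff_lowerCentralSeries V).1 inferInstance
      classical
      set N := Nat.find hex
      have hN : V.lowerCentralSeries N = ⊥ := Nat.find_spec hex
      have hne1 : V.lowerCentralSeries 1 ≠ ⊥ := fun e => habV ⟨⟨fun a b => Subtype.ext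
        (commutatorElement_eq_one_iff_commute.1 (Subgroup.mem_bot.1 (e.le
          (commutator_mem_commutator (H₁ := V.lowerCentralSeries 0) a.2 b.2)))).eq⟩⟩
      obtain ⟨m, hm⟩ : ∃ m, N = m + 2 := by
        refine ⟨N - 2, ?_⟩
        have h1 : 2 ≤ N := by
          rw [Nat.le_find_iff]
          intro j hj e
          interval_cases j
          · exact hne1 (eq_bot_iff.2 (e.le.trans' (V.lowerCentralSeries_antitone (by omega))))
          · exact hne1 e
        omega
      set Γ := V.lowerCentralSeries (m + 1) with hΓ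
      set γ := V.lowerCentralSeries m with hγ
      have hΓne : Γ ≠ ⊥ := Nat.find_min hex (show m + 1 < N by omega)
      have hΓV : Γ ≤ V := V.lowerCentralSeries_antitone (Nat.zero_le _)
      have hγV : γ ≤ V := V.lowerCentralSeries_antitone (Nat.zero_le _)
      have hcen : ∀ x ∈ Γ, ∀ v ∈ V, Commute x v := fun x hx v hv => by
        refine commutatorElement_eq_one_iff_commute.1 (Subgroup.mem_bot.1 ?_)
        rw [← hN, hm]
        exact commutator_mem_commutator hx hv
      haveI hΓab : IsMulCommutative Γ :=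
        ⟨⟨fun a b => Subtype.ext (hcen a a.2 b (hΓV b.2)).eq⟩⟩
      have hnormV := fun j => h.inv.trans (normalizer_le_lowerCentralSeries V j)
      have hbr : ∀ a ∈ γ, ∀ b ∈ V, ⁅a, b⁆ ∈ Γ := fun a ha b hb =>
        commutator_mem_commutator ha hb
      set U := core K Z Γ with hU
      have hmulL : ∀ a ∈ γ, ∀ a' ∈ γ, ∀ b ∈ V, ⁅a * a', b⁆ = ⁅a, b⁆ * ⁅a', b⁆ := by
        intro a ha a' ha' b hb
        rw [commutatorElement_mul_left, ← (hcen _ (hbr a' ha' b hb) a (hγV ha)).eq,
          mul_inv_cancel_right]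
        exact (hcen _ (hbr a' ha' b hb) _ (hΓV (hbr a ha b hb))).eq
      have hpiece : ∀ k ∈ K, k ≠ 1 → ∀ w ∈ ⁅V ⊓ centralizer {k}, K⁆, ∀ v ∈ γ, ⁅v, w⁆ ∈ U := by
        intro k hk hk1 w hw
        obtain ⟨hwV, hwk⟩ :=
          mem_inf.1 (le_normalizer_iff_commutator_le_left.1 (h.inv_fixed hk) hw)
        let L : Subgroup G :=
          { carrier := {v | v ∈ γ ∧ ⁅v, w⁆ ∈ U}
            one_mem' := ⟨one_mem _, by rw [commutatorElement_one_left]; exact one_mem _⟩
            mul_mem' := fun {a b} ha hb => ⟨mul_mem ha.1 hb.1, by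
              rw [hmulL a ha.1 b hb.1 w hwV]; exact mul_mem ha.2 hb.2⟩
            inv_mem' := fun {a} ha => ⟨inv_mem ha.1, by
              have h1 := hmulL a⁻¹ (inv_mem ha.1) a ha.1 w hwV
              rw [inv_mul_cancel, commutatorElement_one_left] at h1
              rw [eq_inv_of_mul_eq_one_left h1.symm]
              exact inv_mem ha.2⟩ }
        suffices hγL : γ ≤ L from fun v hv => (hγL hv).2
        have hzk : zpowers k ≤ K := zpowers_le.2 hk
        conv_lhs => rw [← Coprime.commutator_sup_centralizer (A := zpowers k) (K := γ)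
          (hzk.trans (hnormV m)) (Coprime.coprime_of_le h.cop hzk hγV)
          (.inl (Coprime.isSolvable_zpowers _))]
        refine sup_le (commutator_le.2 fun v hv b hb => ⟨?_, ?_⟩) (fun c hc => ⟨(mem_inf.1 hc).1, ?_⟩)
        · rw [commutatorElement_def, mul_assoc, mul_assoc, ← mul_assoc b]
          exact mul_mem hv (conj_mem_of_mem_normalizer (hnormV m (hzk hb)) (inv_mem hv))
        · have hbw : Commute b w := by
            obtain ⟨i, rfl⟩ := mem_zpowers_iff.1 hb
            exact (mem_centralizer_singleton.1 hwk).symm.zpow_left i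
          have h2 : b * v⁻¹ * b⁻¹ ∈ γ :=
            conj_mem_of_mem_normalizer (hnormV m (hzk hb)) (inv_mem hv)
          rw [show (⁅v, b⁆ : G) = v * (b * v⁻¹ * b⁻¹) by
            simp [commutatorElement_def, mul_assoc], hmulL v hv _ h2 w hwV]
          have h3 : ⁅b * v⁻¹ * b⁻¹, w⁆ = b * ⁅v, w⁆⁻¹ * b⁻¹ := by
            have h4 := hmulL v⁻¹ (inv_mem hv) v hv w hwV
            rw [inv_mul_cancel, commutatorElement_one_left] at h4
            rw [← eq_inv_of_mul_eq_one_left h4.symm, conj_commutatorElement]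
            rw [hbw.eq, mul_inv_cancel_right]
          rw [h3]
          have h5 : ⁅⁅v, w⁆, b⁆ ∈ ⁅Γ, K⁆ := commutator_mem_commutator (hbr v hv w hwV) (hzk hb)
          refine mem_sup_right ?_
          simpa [commutatorElement_def, mul_assoc] using h5
        · have hck : Commute c k :=
            commute_of_mem_centralizer (mem_inf.1 hc).2 (mem_zpowers k)
          refine h.piece_inf_le (hnormV (m + 1)) hk hk1 (mem_inf.2
            ⟨?_, hbr c (mem_inf.1 hc).1 w hwV⟩)
          rw [commutatorElement_def]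
          exact mul_mem (conj_mem_of_mem_normalizer (mem_normalizer_commutator_left
            (mem_inf.2 ⟨hγV (mem_inf.1 hc).1, mem_centralizer_singleton.2 hck⟩)) hw) (inv_mem hw)
      let R : Subgroup G :=
        { carrier := {w | w ∈ V ∧ ∀ v ∈ γ, ⁅v, w⁆ ∈ U}
          one_mem' := ⟨one_mem _, fun v _ => by
            rw [commutatorElement_one_right]; exact one_mem _⟩
          mul_mem' := fun {a b} ha hb => ⟨mul_mem ha.1 hb.1, fun v hv => by
            rw [commutatorElement_mul_right, ← (hcen _ (hbr v hv b hb.1) a ha.1).eq,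
              mul_inv_cancel_right]
            exact mul_mem (ha.2 v hv) (hb.2 v hv)⟩
          inv_mem' := fun {a} ha => ⟨inv_mem ha.1, fun v hv => by
            have h1 : ⁅v, a⁻¹⁆ = ⁅v, a⁆⁻¹ := by
              have h2 := commutatorElement_mul_right v a a⁻¹
              rw [mul_inv_cancel, commutatorElement_one_right,
                ← (hcen _ (hbr v hv _ (inv_mem ha.1)) a ha.1).eq, mul_inv_cancel_right] at h2
              exact eq_inv_of_mul_eq_one_right h2.symm
            rw [h1]; exact inv_mem (ha.2 v hv)⟩ }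
      have hVR : V ≤ R := hgen.trans (iSup₂_le fun k hk w hw =>
        ⟨(le_normalizer_iff_commutator_le_left.1 (h.inv_fixed hk.1) hw).1,
          hpiece k hk.1 hk.2 w hw⟩)
      have hΓU : Γ ≤ U := commutator_le.2 fun v hv w hw => (hVR hw).2 v hv
      intro c hc
      obtain ⟨z, hz, hzc⟩ := hquot Γ hΓne hΓV
        (Subgroup.le_normalizer.trans (normalizer_le_lowerCentralSeries V (m + 1)))
        (hnormV (m + 1)) c hc
      have h1 : z⁻¹ * c ∈ Z := h.core_inf_le hΓV (hnormV (m + 1)) (mem_inf.2 ⟨hΓU hzc,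
        mul_mem (inv_mem (mem_inf.1 (h.le hz)).2) (mem_inf.1 hc).2⟩)
      simpa using mul_mem hz h1
    · -- a minimal abelian invariant normal subgroup
      push_neg at hp
      let 𝒮 : Set (Subgroup G) := {M | M ≠ ⊥ ∧ M ≤ V ∧ V ≤ normalizer (M : Set G) ∧
        K ≤ normalizer (M : Set G) ∧ IsMulCommutative M}
      have hne : 𝒮.Nonempty := by
        haveI := h.solv
        obtain ⟨N, hN⟩ := (Group.isSolvable_def V).1 h.solv
        classical
        have hex : ∃ N, derivedSeries V N = ⊥ := ⟨N, hN⟩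
        have hV : V ≠ ⊥ := fun e => habV (by subst e; infer_instance)
        obtain ⟨j, hj⟩ : ∃ j, Nat.find hex = j + 1 := by
          refine ⟨Nat.find hex - 1, (Nat.sub_add_cancel (Nat.one_le_iff_ne_zero.2 fun e => hV ?_)).symm⟩
          have := Nat.find_spec hex
          rw [e, derivedSeries_zero] at this
          rw [eq_bot_iff]
          intro v hv
          exact Subgroup.mem_bot.2 (congrArg Subtype.val
            (Subgroup.mem_bot.1 (this.le (mem_top (⟨v, hv⟩ : V)))))
        have hchar : normalizer (V : Set G) ≤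
            normalizer (((derivedSeries V j).map V.subtype : Subgroup G) : Set G) := by
          intro g hg
          refine mem_normalizer_of_conj ?_
          rintro _ ⟨v, hv, rfl⟩
          exact ⟨V.normalizerMonoidHom ⟨g, hg⟩ v,
            (Subgroup.characteristic_iff_le_comap.1 (derivedSeries_characteristic V j)
              (V.normalizerMonoidHom ⟨g, hg⟩)) hv, rfl⟩
        refine ⟨(derivedSeries V j).map V.subtype, ?_, map_subtype_le _,
          Subgroup.le_normalizer.trans hchar, h.inv.trans hchar, ⟨⟨fun a b => Subtype.ext ?_⟩⟩⟩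
        · rw [Ne, Subgroup.map_eq_bot_iff_of_injective _ V.subtype_injective]
          exact Nat.find_min hex (by omega)
        · obtain ⟨a', ha', ea⟩ := a.2
          obtain ⟨b', hb', eb⟩ := b.2
          show (a : G) * b = b * a
          rw [← ea, ← eb, ← map_mul, ← map_mul]
          refine congrArg _ (commutatorElement_eq_one_iff_commute.1 (Subgroup.mem_bot.1 ?_)).eq
          rw [← Nat.find_spec hex, hj, derivedSeries_succ]
          exact commutator_mem_commutator ha' hb'
      obtain ⟨M, hMmem, hMmin⟩ := (Set.toFinite 𝒮).exists_minimal hne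
      obtain ⟨hM, hMV, hVM, hKM, hMab⟩ := hMmem
      haveI := hMab
      set U := core K Z M with hU
      have hMK : ⁅M, K⁆ ≤ M := le_normalizer_iff_commutator_le_left.1 hKM
      have hUM : U ≤ M := sup_le inf_le_right hMK
      have hnC : ∀ c ∈ C, c ∈ normalizer (U : Set G) := fun c hc => by
        refine mem_normalizer_of_conj (conj_mem_sup (fun x hx => mem_sup_left (mem_inf.2
          ⟨conj_mem_of_mem_normalizer (h.nrm hc) (mem_inf.1 hx).1,
            conj_mem_of_mem_normalizer (hVM (mem_inf.1 hc).1) (mem_inf.1 hx).2⟩))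
          fun x hx => mem_sup_right ?_)
        refine conj_mem_commutator (fun y hy => conj_mem_of_mem_normalizer (hVM (mem_inf.1 hc).1) hy)
          (fun k hk => ?_) x hx
        rwa [(commute_of_mem_centralizer (mem_inf.1 hc).2 hk).eq, mul_inv_cancel_right]
      have hnW : ∀ k ∈ K, k ≠ 1 → ⁅V ⊓ centralizer {k}, K⁆ ≤ normalizer (U : Set G) := by
        intro k hk hk1 w hw
        obtain ⟨hwV, hwk⟩ :=
          mem_inf.1 (le_normalizer_iff_commutator_le_left.1 (h.inv_fixed hk) hw)
        have hzk : zpowers k ≤ K := zpowers_le.2 hk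
        refine mem_normalizer_of_conj fun u hu => ?_
        have huM := hUM hu
        rw [← Coprime.commutator_sup_centralizer (A := zpowers k) (K := M) (hzk.trans hKM)
          (Coprime.coprime_of_le h.cop hzk hMV) (.inl (Coprime.isSolvable_zpowers _))] at huM
        have hle : ⁅M, zpowers k⁆ ≤ M := (commutator_mono le_rfl hzk).trans hMK
        obtain ⟨e, he, c, hc, rfl⟩ := (Coprime.mem_sup_of_le_normalizer (fun c hc =>
          mem_normalizer_of_commute fun a ha =>
            setLike_mul_comm (mem_inf.1 hc).1 (hle ha))).1 huM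
        have heU : e ∈ U := mem_sup_right (commutator_mono le_rfl hzk he)
        have hcU : c ∈ U := by simpa using mul_mem (inv_mem heU) hu
        rw [show w * (e * c) * w⁻¹ = w * e * w⁻¹ * (⁅w, c⁆ * c) by
          simp [commutatorElement_def, mul_assoc]]
        refine mul_mem (mem_sup_right (commutator_mono le_rfl hzk ?_)) (mul_mem ?_ hcU)
        · refine conj_mem_commutator (fun y hy => conj_mem_of_mem_normalizer (hVM hwV) hy)
            (fun b hb => ?_) e he
          obtain ⟨i, rfl⟩ := mem_zpowers_iff.1 hb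
          rw [((mem_centralizer_singleton.1 hwk).zpow_right i).eq, mul_inv_cancel_right]
          exact ⟨i, rfl⟩
        · refine h.piece_inf_le hKM hk hk1 (mem_inf.2 ⟨?_, ?_⟩)
          · rw [← inv_inv (⁅w, c⁆), commutatorElement_inv, commutatorElement_def]
            refine inv_mem (mul_mem (conj_mem_of_mem_normalizer (mem_normalizer_commutator_left
              (mem_inf.2 ⟨hMV (mem_inf.1 hc).1, mem_centralizer_singleton.2
                (commute_of_mem_centralizer (mem_inf.1 hc).2 (mem_zpowers k))⟩)) hw) (inv_mem hw))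
          · rw [commutatorElement_def]
            exact mul_mem (conj_mem_of_mem_normalizer (hVM hwV) (mem_inf.1 hc).1)
              (inv_mem (mem_inf.1 hc).1)
      have hVU : V ≤ normalizer (U : Set G) := hgen.trans (iSup₂_le fun k hk => hnW k hk.1 hk.2)
      have hKU : K ≤ normalizer (U : Set G) := fun k hk => mem_normalizer_of_conj (conj_mem_sup
        (fun x hx => mem_sup_left (by
          have hxK := (mem_inf.1 (h.le (mem_inf.1 hx).1)).2
          rwa [← (commute_of_mem_centralizer hxK hk).eq, mul_inv_cancel_right]))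
        fun x hx => mem_sup_right
          (conj_mem_of_mem_normalizer (normalizer_commutator_ge_right M K hk) hx))
      intro c hc
      obtain ⟨z, hz, hzc⟩ := hquot M hM hMV hVM hKM c hc
      have hzcC : z⁻¹ * c ∈ centralizer (K : Set G) :=
        mul_mem (inv_mem (mem_inf.1 (h.le hz)).2) (mem_inf.1 hc).2
      by_cases hUb : U = ⊥
      · exfalso
        obtain ⟨hU1, hU2⟩ := sup_eq_bot_iff.1 hUb
        have hMfix : ∀ k ∈ K, ∀ m ∈ M, Commute m k := fun k hk m hm =>
          commutatorElement_eq_one_iff_commute.1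
            (Subgroup.mem_bot.1 (hU2.le (commutator_mem_commutator hm hk)))
        have hMcen : V ≤ centralizer (M : Set G) := by
          rw [← hfull]
          refine commutator_le.2 fun v hv k hk => mem_centralizer_of fun m hm => ?_
          have h1 : v⁻¹ * m * v ∈ M := by
            simpa using conj_mem_of_mem_normalizer (hVM (inv_mem hv)) hm
          have h2 : k * (v⁻¹ * m * v) = v⁻¹ * m * v * k := (hMfix k hk _ h1).eq.symm
          have h3 : k⁻¹ * m = m * k⁻¹ := ((hMfix k hk m hm).inv_right).eq.symm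
          rw [commute_iff_eq, commutatorElement_def]
          calc v * k * v⁻¹ * k⁻¹ * m = v * k * v⁻¹ * (k⁻¹ * m) := by group
            _ = v * (k * (v⁻¹ * m * v)) * v⁻¹ * k⁻¹ := by rw [h3]; group
            _ = v * (v⁻¹ * m * v * k) * v⁻¹ * k⁻¹ := by rw [h2]
            _ = m * (v * k * v⁻¹ * k⁻¹) := by group
        obtain ⟨m₀, hm₀, hm₀1⟩ := M.bot_or_exists_ne_one.resolve_left hM
        obtain ⟨p, hp', hpdvd⟩ := Nat.exists_prime_and_dvd
          (mt orderOf_eq_one_iff.1 hm₀1)
        haveI := Fact.mk hp'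
        set m := m₀ ^ (orderOf m₀ / p) with hmdef
        have hmord : orderOf m = p := orderOf_pow_orderOf_div (orderOf_pos m₀).ne' hpdvd
        have hmM : m ∈ M := pow_mem hm₀ _
        have hm1 : m ≠ 1 := fun e => hp'.ne_one (by rw [← hmord, e, orderOf_one])
        have hzp : zpowers m = M := by
          refine le_antisymm (zpowers_le.2 hmM) (hMmin ⟨?_, (zpowers_le.2 hmM).trans hMV,
            ?_, ?_, inferInstance⟩ (zpowers_le.2 hmM))
          · exact fun e => hm1 (Subgroup.zpowers_eq_bot.1 e)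
          · exact fun v hv => mem_normalizer_of_commute fun a ha =>
              commute_of_mem_centralizer (hMcen hv) (zpowers_le.2 hmM ha)
          · exact fun k hk => mem_normalizer_of_commute fun a ha =>
              (hMfix k hk a (zpowers_le.2 hmM ha)).symm
        have hMp : IsPGroup p M := IsPGroup.of_card (n := 1)
          (by rw [← hzp, Nat.card_zpowers, hmord, pow_one])
        obtain ⟨P, hKP⟩ := Coprime.exists_invariant_sylow h.inv h.cop (.inl h.isSolvable_K) p
        set PX := (P : Subgroup V).map V.subtype with hPX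
        have hPV : PX ≤ V := map_subtype_le _
        have hMP : M ≤ PX := by
          haveI hMn : (M.subgroupOf V).Normal := (normal_subgroupOf_iff_le_normalizer hMV).2 hVM
          have hMP' : M.subgroupOf V ≤ P := by
            have := P.3 (P.2.to_sup_of_normal_right
              (hMp.of_equiv (subgroupOfEquivOfLe hMV).symm)) le_sup_left
            exact le_sup_right.trans this.le
          intro x hx
          exact ⟨⟨x, hMV hx⟩, hMP' hx, rfl⟩
        have hPp : IsPGroup p PX := P.2.map _
        have hPlt : PX < V := hPV.lt_of_ne fun e => hp p hp' (by rw [← e]; exact hPp)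
        have hmC : m ∈ C := mem_inf.2
          ⟨hMV hmM, mem_centralizer_of fun k hk => hMfix k hk m hmM⟩
        have hmP : m ∈ ⁅PX, PX⁆ := by
          have h1 : (⟨m, hMV hmM⟩ : V) ∈ _root_.commutator V := by
            have := centralizer_le_derived h.inv h.cop hfull hmC
            rw [← Coprime.map_commutator_subtype V] at this
            obtain ⟨y, hy, e⟩ := this
            rwa [show y = ⟨m, hMV hmM⟩ from Subtype.ext e] at hy
          have hmP' : (⟨m, hMV hmM⟩ : V) ∈ (P : Subgroup V) := by
            obtain ⟨y, hy, e⟩ := hMP hmM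
            rwa [show y = ⟨m, hMV hmM⟩ from Subtype.ext e] at hy
          set φ : ↥(P : Subgroup V) →* Abelianization ↥(P : Subgroup V) := Abelianization.of
          have hcen : (⟨m, hMV hmM⟩ : V) ∈ center V := Subgroup.mem_center_iff.2 fun v =>
            Subtype.ext (commute_of_mem_centralizer (hMcen v.2) hmM).eq
          have h2 := Fusion.Transfer.transfer_eq_pow_of_central φ (x := ⟨_, hmP'⟩) hcen
          have h3 : MonoidHom.transfer φ (⟨m, hMV hmM⟩ : V) = 1 :=
            Abelianization.commutator_subset_ker _ h1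
          rw [h3] at h2
          have h4 : φ ⟨_, hmP'⟩ = 1 := by
            refine orderOf_eq_one_iff.1 (Nat.eq_one_of_dvd_coprimes
              ((Nat.Prime.coprime_iff_not_dvd hp').2 P.not_dvd_index).symm
              (orderOf_dvd_iff_pow_eq_one.2 h2.symm)
              ((orderOf_map_dvd φ _).trans (dvd_of_eq (by
                rw [← Subgroup.orderOf_coe, ← Subgroup.orderOf_coe]; exact hmord))))
          have h5 : (⟨_, hmP'⟩ : ↥(P : Subgroup V)) ∈ _root_.commutator ↥(P : Subgroup V) := by
            rwa [← Abelianization.ker_of, MonoidHom.mem_ker]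
          have h6 : ((⟨_, hmP'⟩ : ↥(P : Subgroup V)) : V) ∈
              ⁅(P : Subgroup V), (P : Subgroup V)⁆ := by
            rw [← Coprime.map_commutator_subtype]
            exact ⟨_, h5, rfl⟩
          rw [hPX, ← Subgroup.map_commutator]
          exact ⟨_, h6, rfl⟩
        have hd : FourData K PX (Z ⊓ PX) := by
          refine ⟨h.comm, h.noncyclic, hKP, Coprime.coprime_of_le h.cop le_rfl hPV,
            Coprime.isSolvable_of_le hPV h.solv,
            le_inf inf_le_right (inf_le_left.trans (h.le.trans inf_le_right)),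
            (le_inf ((inf_le_inf_right _ hPV).trans h.nrm)
              (inf_le_left.trans Subgroup.le_normalizer)).trans inf_normalizer_le_normalizer_inf,
            fun k hk hk1 => le_inf ?_ (inf_le_left.trans inf_le_left)⟩
          exact (le_inf (inf_le_left.trans (inf_le_inf_right _ hPV))
            (inf_le_right.trans (commutator_mono (inf_le_inf_right _ hPV) le_rfl))).trans
            (h.small k hk hk1)
        have hPind := ih _ (Nat.lt_of_le_of_ne (Nat.le_of_dvd Nat.card_pos (card_dvd_of_le hPV))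
          fun e => hPlt.ne (eq_of_le_of_card_ge hPV e.ge)) G K PX _ rfl hd
        set N := ⁅PX, K⁆ with hNdef
        set CP := PX ⊓ centralizer (K : Set G) with hCP
        have hNP : N ≤ PX := le_normalizer_iff_commutator_le_left.1 hKP
        have hPN : PX ≤ normalizer (N : Set G) := fun x hx => mem_normalizer_commutator_left hx
        have hdec : PX = N ⊔ CP := (Coprime.commutator_sup_centralizer hKP
          (Coprime.coprime_of_le h.cop le_rfl hPV) (.inl h.isSolvable_K)).symm
        set D := N ⊔ (Z ⊓ PX) with hD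
        have hconjZ : ∀ a ∈ PX, ∀ y ∈ Z ⊓ PX, a * y * a⁻¹ ∈ D := by
          intro a ha y hy
          rw [hdec] at ha
          obtain ⟨n₁, hn₁, c₁, hc₁, rfl⟩ :=
            (Coprime.mem_sup_of_le_normalizer (inf_le_left.trans hPN)).1 ha
          obtain ⟨hc₁P, hc₁K⟩ := mem_inf.1 hc₁
          have h1 : c₁ * y * c₁⁻¹ ∈ Z ⊓ PX := mem_inf.2
            ⟨conj_mem_of_mem_normalizer (h.nrm (mem_inf.2 ⟨hPV hc₁P, hc₁K⟩)) (mem_inf.1 hy).1,
              mul_mem (mul_mem hc₁P (mem_inf.1 hy).2) (inv_mem hc₁P)⟩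
          rw [show n₁ * c₁ * y * (n₁ * c₁)⁻¹ =
            n₁ * (c₁ * y * c₁⁻¹ * n₁⁻¹ * (c₁ * y * c₁⁻¹)⁻¹) * (c₁ * y * c₁⁻¹) by group]
          exact mul_mem (mul_mem (mem_sup_left hn₁) (mem_sup_left (conj_mem_of_mem_normalizer
            (hPN (mem_inf.1 h1).2) (inv_mem hn₁)))) (mem_sup_right h1)
        have hCP' : ∀ a ∈ CP, ∀ b ∈ CP, ⁅a, b⁆ ∈ Z ⊓ PX := by
          have hzm : ∀ a ∈ CP, ∃ z ∈ Z, ∃ μ ∈ M, a = z * μ := fun a ha => by
            obtain ⟨z, hz, hzM⟩ := hquot M hM hMV hVM hKM a
              (mem_inf.2 ⟨hPV (mem_inf.1 ha).1, (mem_inf.1 ha).2⟩)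
            exact ⟨z, hz, _, hzM, by group⟩
          intro a ha b hb
          refine mem_inf.2 ⟨?_, by
            rw [commutatorElement_def]
            exact mul_mem (mul_mem (mul_mem (mem_inf.1 ha).1 (mem_inf.1 hb).1)
              (inv_mem (mem_inf.1 ha).1)) (inv_mem (mem_inf.1 hb).1)⟩
          obtain ⟨z₁, hz₁, μ₁, hμ₁, rfl⟩ := hzm a ha
          obtain ⟨z₂, hz₂, μ₂, hμ₂, rfl⟩ := hzm b hb
          have hcm : ∀ μ ∈ M, ∀ v ∈ V, Commute μ v := fun μ hμ v hv =>
            (commute_of_mem_centralizer (hMcen hv) hμ).symm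
          have hz₁V := (mem_inf.1 (h.le hz₁)).1
          have hz₂V := (mem_inf.1 (h.le hz₂)).1
          rw [commutatorElement_mul_left, commutatorElement_mul_right,
            (hcm μ₁ hμ₁ z₂ hz₂V).commutator_eq, (hcm μ₁ hμ₁ μ₂ (hMV hμ₂)).commutator_eq,
            commutatorElement_mul_right, ((hcm μ₂ hμ₂ z₁ hz₁V).symm).commutator_eq]
          simp only [mul_one, mul_inv_cancel, one_mul]
          rw [commutatorElement_def]
          exact mul_mem (mul_mem (mul_mem hz₁ hz₂) (inv_mem hz₁)) (inv_mem hz₂)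
        have hder : ⁅PX, PX⁆ ≤ D := by
          refine commutator_le.2 fun a ha b hb => ?_
          have hbrN : ∀ x ∈ N, ∀ y ∈ PX, ⁅x, y⁆ ∈ N := fun x hx y hy => by
            rw [commutatorElement_def, mul_assoc, mul_assoc, ← mul_assoc y]
            exact mul_mem hx (conj_mem_of_mem_normalizer (hPN hy) (inv_mem hx))
          rw [hdec] at ha hb
          obtain ⟨n₁, hn₁, c₁, hc₁, rfl⟩ :=
            (Coprime.mem_sup_of_le_normalizer (inf_le_left.trans hPN)).1 ha
          obtain ⟨n₂, hn₂, c₂, hc₂, rfl⟩ :=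
            (Coprime.mem_sup_of_le_normalizer (inf_le_left.trans hPN)).1 hb
          rw [commutatorElement_mul_left, commutatorElement_mul_right c₁]
          have h1 : ⁅c₁, n₂⁆ ∈ N := by
            rw [← inv_inv (⁅c₁, n₂⁆), commutatorElement_inv]
            exact inv_mem (hbrN n₂ hn₂ c₁ (mem_inf.1 hc₁).1)
          refine mul_mem (mul_mem (mul_mem (mem_sup_left hn₁) (mul_mem (mem_sup_left h1)
            (hconjZ n₂ (hNP hn₂) _ (hCP' c₁ hc₁ c₂ hc₂)))) (inv_mem (mem_sup_left hn₁)))
            (mem_sup_left (hbrN n₁ hn₁ _ (mul_mem (hNP hn₂) (mem_inf.1 hc₂).1)))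
        obtain ⟨n₁, hn₁, z₁, hz₁, he⟩ :=
          (Coprime.mem_sup_of_le_normalizer (inf_le_right.trans hPN)).1 (hder hmP)
        have h7 : n₁ ∈ Z ⊓ PX := hPind (mem_inf.2 ⟨mem_inf.2 ⟨hNP hn₁, by
          have : n₁ = m * z₁⁻¹ := eq_mul_inv_of_mul_eq he
          rw [this]
          exact mul_mem (mem_inf.1 hmC).2 (inv_mem (mem_inf.1 (h.le (mem_inf.1 hz₁).1)).2)⟩, hn₁⟩)
        have h8 : m ∈ Z ⊓ M := mem_inf.2
          ⟨by rw [← he]; exact mul_mem (mem_inf.1 h7).1 (mem_inf.1 hz₁).1, hmM⟩
        rw [hU1, Subgroup.mem_bot] at h8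
        exact hm1 h8
      · have hUeq : M ≤ U := hMmin ⟨hUb, hUM.trans hMV, hVU, hKU,
          ⟨⟨fun a b => Subtype.ext (setLike_mul_comm (hUM a.2) (hUM b.2))⟩⟩⟩ hUM
        simpa using mul_mem hz (h.core_inf_le hMV hKM (mem_inf.2 ⟨hUeq hzc, hzcC⟩))

/-- The lemma. -/
theorem four_lemma {K V Z : Subgroup G} (h : FourData K V Z) :
    V ⊓ centralizer (K : Set G) ⊓ ⁅V, K⁆ ≤ Z :=
  four_lemma_aux _ G K V Z rfl h

end CfsgLib.LocalEven.ProductFusion
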