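import Cfsg.Agent.Lib.LocalEven.ProductFusion.Frame
import Cfsg.Agent.Lib.LocalEven.ProductFusion.FourLemma
import Cfsg.Agent.Lib.Components.SFT.Complete
import Cfsg.Agent.Lib.OddOrder.Final.Main

/-!
# The functor of a frame is balanced
-/

set_option autoImplicit false
set_option linter.unusedSectionVars false
set_option linter.style.haveILetI false

namespace CfsgLib.LocalEven.ProductFusion

open Subgroup
open scoped commutatorElement

universe u

variable {G : Type u} [Group G] [Finite G] {X Y : Set G} {F E : Subgroup G}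

namespace Frame

theorem theta_odd (_h : Frame X Y F E) {a : G} (ha : a ≠ 1) :
    Odd (Nat.card (theta (F ⊔ E) a)) :=
  odd_of_le (theta_le_oC ha) (odd_card_oc _)

/-- Step zero: `C_θ(a)(y) = (O(C(y)) ∩ ·) C_θ(a)(E)`. -/
theorem theta_step (h : Frame X Y F E) (S : Setting X Y) {a y : G} (ha : a ∈ F ⊔ E) (ha1 : a ≠ 1)
    (hy : y ∈ E) (hy1 : y ≠ 1) :
    theta (F ⊔ E) a ⊓ centralizer {y} ≤
      (oC y ⊓ (theta (F ⊔ E) a ⊓ centralizer {y})) ⊔
        (theta (F ⊔ E) a ⊓ centralizer (E : Set G)) := by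
  set A := F ⊔ E with hAdef
  have hA := h.elementary
  have hyA : y ∈ A := mem_sup_right hy
  set W := theta A a ⊓ centralizer {y} with hW
  have hAW : A ≤ normalizer (W : Set G) :=
    Components.Signalizer.le_normalizer_inf_centralizer_singleton hA (le_normalizer_theta hA a) hyA
  have hodd : Odd (Nat.card W) := odd_of_le inf_le_left (h.theta_odd ha1)
  have hy' : centralizer {y} ≠ ⊤ := h.centralizer_ne_top S hyA hy1
  refine le_of_pieces hA hAW hodd fun D hD v hv hvD => ?_
  by_cases hED : E ≤ D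
  · exact mem_sup_right (mem_inf.2
      ⟨(mem_inf.1 hv).1, mem_centralizer_of fun e he => hvD e (hED he)⟩)
  obtain ⟨t, htE, htD⟩ := SetLike.not_le_iff_exists.1 hED
  refine mem_of_piece hA hD hAW hodd (mem_sup_right htE) htD
    (fun w hw hwA => mem_sup_right (mem_inf.2
      ⟨(mem_inf.1 hw).1, mem_centralizer_of fun e he => hwA e (mem_sup_right he)⟩))
    (fun w hw hwD htw => ?_) hv hvD
  obtain ⟨hwθ, hwy⟩ := mem_inf.1 hw
  have hwo : Odd (orderOf w) := odd_orderOf hodd hw
  by_cases hw1 : w = 1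
  · rw [hw1]; exact one_mem _
  have hmem : ∀ b ∈ A, Commute w b → b ∈ D := fun b hb hwb => by
    by_contra hbD
    exact hw1 (eq_one_of_inverted hwo htw
      (hD.commute_all hb hbD hwD hwb t (mem_sup_right htE)).symm)
  have hyD : y ∈ D := hmem y hyA (mem_centralizer_singleton.1 hwy)
  have haD : a ∈ D := hmem a ha (commute_of_mem_oC (theta_le_oC ha1 hwθ))
  refine mem_sup_left (mem_inf.2 ⟨?_, hw⟩)
  by_cases hFD : F ≤ D
  · obtain ⟨x₀, hx₀, e, he, hae⟩ := h.mem_sup_iff.1 ha
    have heD : e ∈ D := by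
      have := mul_mem (inv_mem (hFD hx₀)) haD
      rwa [← hae, inv_mul_cancel_left] at this
    have he' : e = 1 ∨ e = y := by
      by_contra hne
      push_neg at hne
      exact hED (four_le h.card_E he heD hy hyD hne.1 hy1 hne.2)
    have hwa := theta_le_oC ha1 hwθ
    by_cases hx1 : x₀ = 1
    · subst hx1
      rw [one_mul] at hae
      rcases he' with rfl | rfl
      · exact absurd hae.symm ha1
      · rwa [hae]
    · have hax : ∀ c : G, Commute c y → Commute c x₀ → Commute c a := fun c h1 h2 => by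
        rw [← hae]
        rcases he' with rfl | rfl
        · rw [mul_one]; exact h2
        · exact h2.mul_right h1
      refine S.mem_oc_of_inverted_right hy' (h.subX x₀ hx₀)
        (mem_centralizer_singleton.2 (h.comm x₀ hx₀ y hy)) (N := oC a ⊓ centralizer {y})
        inf_le_right ?_ (odd_of_le inf_le_left (odd_card_oc _)) ?_ (mem_inf.2 ⟨hwa, hwy⟩)
        (h.subY t htE) (mem_centralizer_singleton.2 (h.commute (mem_sup_right htE) hyA)) htw
      · intro c hc
        obtain ⟨hca, hcy⟩ := mem_inf.1 hc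
        have hca' := commute_of_mem_oC hca
        rw [← hae] at hca'
        rcases he' with rfl | rfl
        · rw [mul_one] at hca'; exact mem_centralizer_singleton.2 hca'
        · have := hca'.mul_right (mem_centralizer_singleton.1 hcy).inv_right
          rw [mul_inv_cancel_right] at this
          exact mem_centralizer_singleton.2 this
      · refine le_trans (fun c hc => ?_) inf_normalizer_le_normalizer_inf
        obtain ⟨hcy, hcx⟩ := mem_inf.1 hc
        exact mem_inf.2 ⟨mem_normalizer_oC_of_commute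
          (hax c (mem_centralizer_singleton.1 hcy) (mem_centralizer_singleton.1 hcx)),
          Subgroup.le_normalizer hcy⟩
  · obtain ⟨s, hsF, hsD⟩ := SetLike.not_le_iff_exists.1 hFD
    have hst := hwD _ (hD.mul_mem_of_not_mem (mem_sup_left hsF) (mem_sup_right htE) hsD htD)
    have hsw : s * w * s⁻¹ = w⁻¹ := by
      have h1 : s * t * w * (s * t)⁻¹ = w := by rw [hst.symm.eq, mul_inv_cancel_right]
      have h2 : s * w⁻¹ * s⁻¹ = w := by
        rw [← htw]
        simpa [mul_assoc] using h1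
      have := congrArg (·⁻¹) h2
      simpa [mul_assoc] using this
    exact S.mem_oc_of_inverted hy' (h.subX s hsF)
      (mem_centralizer_singleton.2 (h.comm s hsF y hy)) (h.subY t htE)
      (mem_centralizer_singleton.2 (h.commute (mem_sup_right htE) hyA)) hwy hwo hsw htw

theorem commutator_theta_le (h : Frame X Y F E) (S : Setting X Y) {a y : G} (ha : a ∈ F ⊔ E)
    (ha1 : a ≠ 1) (hy : y ∈ E) (hy1 : y ≠ 1) :
    ⁅theta (F ⊔ E) a ⊓ centralizer {y}, E⁆ ≤ oC y := by
  have hA := h.elementary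
  refine (commutator_le_of_decomp (h.theta_step S ha ha1 hy hy1) ?_ ?_
    fun c hc k hk => commute_of_mem_centralizer (mem_inf.1 hc).2 hk).trans inf_le_left
  · intro c hc
    obtain ⟨hcθ, hcE⟩ := mem_inf.1 hc
    have hcy := commute_of_mem_centralizer hcE hy
    exact inf_normalizer_le_normalizer_inf (mem_inf.2 ⟨mem_normalizer_oC_of_commute hcy,
      Subgroup.le_normalizer (mem_inf.2 ⟨hcθ, mem_centralizer_singleton.2 hcy⟩)⟩)
  · intro k hk
    exact inf_normalizer_le_normalizer_inf (mem_inf.2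
      ⟨mem_normalizer_oC_of_commute (h.commute (mem_sup_right hk) (mem_sup_right hy)),
      Components.Signalizer.le_normalizer_inf_centralizer_singleton hA (le_normalizer_theta hA a)
        (mem_sup_right hy) (mem_sup_right hk)⟩)

/-- An invariant `Z` meeting the criterion absorbs the fixed points of `E` on `θ(a)`. -/
theorem fixed_le (h : Frame X Y F E) (S : Setting X Y) {a : G} (ha1 : a ≠ 1)
    {Z : Subgroup G} (hd : FourData E (theta (F ⊔ E) a) Z)
    (hZ : ∀ v ∈ theta (F ⊔ E) a, v ∈ centralizer (E : Set G) →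
      (∀ y ∈ E, y ≠ 1 → v ∈ oC y) → v ∈ Z) :
    theta (F ⊔ E) a ⊓ centralizer (E : Set G) ≤ Z := by
  set A := F ⊔ E with hAdef
  set V := theta A a with hV
  have hA := h.elementary
  have hgen : V ≤ ⁅V, E⁆ ⊔ Z := by
    conv_lhs => rw [hV, theta]
    refine iSup_le fun D => ?_
    have hDA := D.2.1.1
    have hDV : gam D.1 ≤ V := gam_le_theta D.2.1 D.2.2
    rw [← split (A := E) (isPGroup_of_sq h.sqE) (le_sup_right.trans (le_normalizer_gam hA hDA))
      (odd_of_le hDV (h.theta_odd ha1))]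
    refine sup_le ((commutator_mono hDV le_rfl).trans le_sup_left) fun v hv => mem_sup_right ?_
    obtain ⟨hvg, hvE⟩ := mem_inf.1 hv
    refine hZ v (hDV hvg) hvE fun y hy hy1 => ?_
    obtain ⟨x, hxF, hxD, hx1⟩ := h.exists_mem_hyp D.2.1
    obtain ⟨y', hy'E, hy'D, hy'1⟩ := h.symm.exists_mem_hyp (D := D.1) (by rw [sup_comm]; exact D.2.1)
    exact S.mem_oC_of (h.subX x hxF) (h.subY y' hy'E)
      (h.centralizer_ne_top S (mem_sup_right hy) hy1) (h.comm x hxF y hy)
      (h.commute (mem_sup_right hy'E) (mem_sup_right hy)) (mem_gam.1 hvg x hxD hx1)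
      (mem_gam.1 hvg y' hy'D hy'1) (commute_of_mem_centralizer hvE hy)
  intro c hc
  have hle := four_lemma hd
  have hZV : Z ≤ V := hd.le.trans inf_le_left
  obtain ⟨n, hn, z, hz, rfl⟩ := (Coprime.mem_sup_of_le_normalizer
    (fun z hz => mem_normalizer_commutator_left (hZV hz))).1 (hgen (mem_inf.1 hc).1)
  have hnC : n ∈ V ⊓ centralizer (E : Set G) := by
    have := mul_mem hc (inv_mem (hd.le hz))
    rwa [mul_inv_cancel_right] at this
  exact mul_mem (hle (mem_inf.2 ⟨hnC, hn⟩)) hz

theorem fourData (h : Frame X Y F E) {a : G} (ha1 : a ≠ 1)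
    {Z : Subgroup G} (hle : Z ≤ theta (F ⊔ E) a ⊓ centralizer (E : Set G))
    (hnrm : theta (F ⊔ E) a ⊓ centralizer (E : Set G) ≤ normalizer (Z : Set G))
    (hsmall : ∀ k ∈ E, k ≠ 1 → theta (F ⊔ E) a ⊓ centralizer (E : Set G) ⊓
      ⁅theta (F ⊔ E) a ⊓ centralizer {k}, E⁆ ≤ Z) :
    FourData E (theta (F ⊔ E) a) Z :=
  ⟨isMulCommutative_of_sq h.sqE, not_isCyclic_of_four h.card_E h.sqE,
    le_sup_right.trans (le_normalizer_theta h.elementary a),
    coprime_of_two_group (isPGroup_of_sq h.sqE) (h.theta_odd ha1),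
    OddOrder.Final.oddSolvable _ (h.theta_odd ha1), hle, hnrm, hsmall⟩

/-- `C_θ(a)(y)` centralises `X ∩ C(y)` modulo `O(C(y))`. -/
theorem theta_centralises (h : Frame X Y F E) (S : Setting X Y) {a y : G} (ha : a ∈ F ⊔ E)
    (ha1 : a ≠ 1) (hy : y ∈ E) (hy1 : y ≠ 1) {w x : G}
    (hw : w ∈ theta (F ⊔ E) a ⊓ centralizer {y}) (hx : x ∈ X) (hxy : Commute x y) :
    ⁅w, x⁆ ∈ oC y := by
  set V := theta (F ⊔ E) a with hV
  set C := V ⊓ centralizer (E : Set G) with hC
  set Z := C ⊓ ⨅ y' : {y' : G // y' ∈ E ∧ y' ≠ 1},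
    modCentralizer (oC (y' : G)) {x | x ∈ X ∧ Commute x y'} with hZ
  have hmem : ∀ c, c ∈ Z ↔ c ∈ C ∧
      ∀ y' ∈ E, y' ≠ 1 → ∀ x ∈ X, Commute x y' → ⁅c, x⁆ ∈ oC y' := by
    intro c
    simp only [hZ, mem_inf, mem_iInf, Subtype.forall, and_imp, mem_modCentralizer,
      Set.mem_ofPred_eq]
    refine ⟨fun h' => ⟨h'.1, fun y' hy' hy'1 x hx hxy' => (h'.2 y' hy' hy'1).2 x hx hxy'⟩,
      fun h' => ⟨h'.1, fun y' hy' hy'1 => ⟨mem_normalizer_oC_of_commute
        (commute_of_mem_centralizer h'.1.2 hy'), h'.2 y' hy' hy'1⟩⟩⟩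
  have hd : FourData E V Z := by
    refine h.fourData ha1 inf_le_left (fun g hg => mem_normalizer_of_conj fun c hc => ?_)
      fun k hk hk1 c hc => ?_
    · rw [hmem] at hc ⊢
      refine ⟨mul_mem (mul_mem hg hc.1) (inv_mem hg), fun y' hy' hy'1 x hx hxy' => ?_⟩
      have hgy := commute_of_mem_centralizer (mem_inf.1 hg).2 hy'
      have h1 := conj_mem_of_mem_normalizer (mem_normalizer_oC_of_commute hgy)
        (hc.2 y' hy' hy'1 (g⁻¹ * x * g) (S.pair.conj_left' g hx)
          ((hgy.inv_left.mul_left hxy').mul_left hgy))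
      simpa [commutatorElement_def, mul_assoc] using h1
    · obtain ⟨hcC, hcW⟩ := mem_inf.1 hc
      rw [hmem]
      refine ⟨hcC, fun y' hy' hy'1 x hx hxy' => ?_⟩
      have hck : c ∈ oC k := h.commutator_theta_le S ha ha1 hk hk1 hcW
      exact (S.symm.centralises (h.centralizer_ne_top S (mem_sup_right hy') hy'1) (h.subY k hk)
        (mem_centralizer_singleton.2 (h.commute (mem_sup_right hk) (mem_sup_right hy')))
        inf_le_right (inf_le_left.trans (oC_le k)) (odd_of_le inf_le_left (odd_card_oc _))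
        ((le_inf (inf_le_right.trans (le_normalizer_oC k))
          (inf_le_left.trans Subgroup.le_normalizer)).trans inf_normalizer_le_normalizer_inf)).1
        c (mem_inf.2 ⟨hck, mem_centralizer_singleton.2
          (commute_of_mem_centralizer (mem_inf.1 hcC).2 hy')⟩) x hx
        (mem_centralizer_singleton.2 hxy')
  have hCZ : C ≤ Z := h.fixed_le S ha1 hd fun v hvV hvE hvy => (hmem v).2
    ⟨mem_inf.2 ⟨hvV, hvE⟩, fun y' hy' hy'1 x _ hxy' => by
      rw [commutatorElement_def, mul_assoc, mul_assoc, ← mul_assoc x]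
      exact mul_mem (hvy y' hy' hy'1) (conj_mem_of_mem_normalizer
        (mem_normalizer_oC_of_commute hxy') (inv_mem (hvy y' hy' hy'1)))⟩
  have hle : (oC y ⊓ (V ⊓ centralizer {y})) ⊔ C ≤
      modCentralizer (oC y) {x | x ∈ X ∧ Commute x y} := sup_le
    (fun v hv => ⟨Subgroup.le_normalizer (mem_inf.1 hv).1, fun x hx => by
      rw [commutatorElement_def, mul_assoc, mul_assoc, ← mul_assoc x]
      exact mul_mem (mem_inf.1 hv).1 (conj_mem_of_mem_normalizer
        (mem_normalizer_oC_of_commute hx.2) (inv_mem (mem_inf.1 hv).1))⟩)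
    fun c hc => ⟨mem_normalizer_oC_of_commute (commute_of_mem_centralizer (mem_inf.1 hc).2 hy),
      fun x hx => ((hmem c).1 (hCZ hc)).2 y hy hy1 x hx.1 hx.2⟩
  exact (hle (h.theta_step S ha ha1 hy hy1 hw)).2 x ⟨hx, hxy⟩

/-- `C_θ(a)(y) ≤ O(C(y))`. -/
theorem theta_inf_le_oC (h : Frame X Y F E) (S : Setting X Y) {a y : G} (ha : a ∈ F ⊔ E)
    (ha1 : a ≠ 1) (hy : y ∈ E) (hy1 : y ≠ 1) :
    theta (F ⊔ E) a ⊓ centralizer {y} ≤ oC y := by
  set V := theta (F ⊔ E) a with hV
  set C := V ⊓ centralizer (E : Set G) with hC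
  set Z := C ⊓ ⨅ y' : {y' : G // y' ∈ E ∧ y' ≠ 1}, oC (y' : G) with hZ
  have hA := h.elementary
  have hmem : ∀ c, c ∈ Z ↔ c ∈ C ∧ ∀ y' ∈ E, y' ≠ 1 → c ∈ oC y' := fun c => by
    simp only [hZ, mem_inf, mem_iInf, Subtype.forall, and_imp]
  have hd : FourData E V Z := by
    refine h.fourData ha1 inf_le_left (fun g hg => mem_normalizer_of_conj fun c hc => ?_)
      fun k hk hk1 => ?_
    · rw [hmem] at hc ⊢
      exact ⟨mul_mem (mul_mem hg hc.1) (inv_mem hg), fun y' hy' hy'1 => conj_mem_of_mem_normalizer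
        (mem_normalizer_oC_of_commute (commute_of_mem_centralizer (mem_inf.1 hg).2 hy'))
        (hc.2 y' hy' hy'1)⟩
    · set U := C ⊓ ⁅V ⊓ centralizer {k}, E⁆ with hU
      have hUk : U ≤ oC k := inf_le_right.trans (h.commutator_theta_le S ha ha1 hk hk1)
      have hFU : F ≤ normalizer (U : Set G) := fun f hf => mem_normalizer_of_conj fun c hc => by
        have hfA : f ∈ F ⊔ E := mem_sup_left hf
        obtain ⟨hcC, hcW⟩ := mem_inf.1 hc
        refine mem_inf.2 ⟨conj_mem_of_mem_normalizer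
          (Components.Signalizer.le_normalizer_inf_centralizer hA (le_normalizer_theta hA a)
            le_sup_right hfA) hcC, conj_mem_commutator (fun v hv => conj_mem_of_mem_normalizer
          (Components.Signalizer.le_normalizer_inf_centralizer_singleton hA
            (le_normalizer_theta hA a) (mem_sup_right hk) hfA) hv) (fun e he => ?_) c hcW⟩
        rwa [(h.comm f hf e he).eq, mul_inv_cancel_right]
      rw [← split (A := F) (U := U) (isPGroup_of_sq h.sqF) hFU
        (odd_of_le (inf_le_left.trans inf_le_left) (h.theta_odd ha1))]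
      refine sup_le (commutator_le.2 fun u hu f hf => ?_) fun c hc => ?_
      · rw [hmem]
        obtain ⟨huV, huE⟩ := mem_inf.1 (mem_inf.1 hu).1
        refine ⟨(mem_inf.1 (show ⁅u, f⁆ ∈ U from ?_)).1, fun y' hy' hy'1 => ?_⟩
        · rw [commutatorElement_def, mul_assoc, mul_assoc, ← mul_assoc f]
          exact mul_mem hu (conj_mem_of_mem_normalizer (hFU hf) (inv_mem hu))
        · exact h.theta_centralises S ha ha1 hy' hy'1
            (mem_inf.2 ⟨huV, mem_centralizer_singleton.2 (commute_of_mem_centralizer huE hy')⟩)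
            (h.subX f hf) (h.comm f hf y' hy')
      · obtain ⟨hcU, hcF⟩ := mem_inf.1 hc
        obtain ⟨hcV, hcE⟩ := mem_inf.1 (mem_inf.1 hcU).1
        rw [hmem]
        refine ⟨(mem_inf.1 hcU).1, fun y' hy' hy'1 => ?_⟩
        obtain ⟨x, hxF, hx1⟩ := h.exists_ne_one_F
        have hcx : c ∈ centralizer {x} :=
          mem_centralizer_singleton.2 (commute_of_mem_centralizer hcF hxF)
        have hcox : c ∈ oC x := by
          refine (S.symm.centralises (h.centralizer_ne_top S (mem_sup_left hxF) hx1) (h.subY k hk)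
            (mem_centralizer_singleton.2 (h.comm x hxF k hk).symm) inf_le_right
            (inf_le_left.trans (oC_le k)) (odd_of_le inf_le_left (odd_card_oc _))
            ((le_inf (inf_le_right.trans (le_normalizer_oC k))
              (inf_le_left.trans Subgroup.le_normalizer)).trans inf_normalizer_le_normalizer_inf)).2
            c (mem_inf.2 ⟨hUk hcU, hcx⟩) fun w hw hwx => ?_
          exact h.symm.theta_centralises S.symm (a := a) (by rw [sup_comm]; exact ha) ha1 hxF hx1
            (mem_inf.2 ⟨by rw [sup_comm]; exact hcV, hcx⟩) hw (mem_centralizer_singleton.1 hwx)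
        exact S.mem_oC_of (h.subX x hxF) (h.subY k hk)
          (h.centralizer_ne_top S (mem_sup_right hy') hy'1) (h.comm x hxF y' hy')
          (h.commute (mem_sup_right hk) (mem_sup_right hy')) hcox (hUk hcU)
          (commute_of_mem_centralizer hcE hy')
  have hCZ : C ≤ Z := h.fixed_le S ha1 hd fun v hvV hvE hvy =>
    (hmem v).2 ⟨mem_inf.2 ⟨hvV, hvE⟩, hvy⟩
  exact (h.theta_step S ha ha1 hy hy1).trans
    (sup_le inf_le_left fun c hc => ((hmem c).1 (hCZ hc)).2 y hy hy1)

theorem balance (h : Frame X Y F E) (S : Setting X Y) {a b : G} (ha : a ∈ F ⊔ E) (ha1 : a ≠ 1)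
    (hb : b ∈ F ⊔ E) :
    theta (F ⊔ E) a ⊓ centralizer {b} ≤ theta (F ⊔ E) b := by
  set A := F ⊔ E with hAdef
  have hA := h.elementary
  refine le_of_pieces hA (Components.Signalizer.le_normalizer_inf_centralizer_singleton hA
    (le_normalizer_theta hA a) hb) (odd_of_le inf_le_left (h.theta_odd ha1))
    fun D hD v hv hvD => ?_
  obtain ⟨hvθ, hvb⟩ := mem_inf.1 hv
  set D' := D ⊔ zpowers b with hD'
  have hD'A : D' ≤ A := sup_le hD.1 (zpowers_le.2 hb)
  have hD'h : Hyp A D' := hD.mono le_sup_left hD'A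
  have hvD' : ∀ d ∈ D', Commute v d := by
    have h1 : D' ≤ centralizer {v} := sup_le
      (fun d hd => mem_centralizer_singleton.2 (hvD d hd).symm)
      (zpowers_le.2 (mem_centralizer_singleton.2 (mem_centralizer_singleton.1 hvb).symm))
    exact fun d hd => (mem_centralizer_singleton.1 (h1 hd)).symm
  obtain ⟨x, hxF, hxD, hx1⟩ := h.exists_mem_hyp hD'h
  obtain ⟨y, hyE, hyD, hy1⟩ := h.symm.exists_mem_hyp (D := D') (by rw [sup_comm]; exact hD'h)
  refine gam_le_theta hD'h (mem_sup_right (mem_zpowers b)) (h.mem_gam_of S hD'A hxF hyE ?_ ?_ hvD')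
  · exact h.symm.theta_inf_le_oC S.symm (a := a) (by rw [sup_comm]; exact ha) ha1 hxF hx1
      (mem_inf.2 ⟨by rw [sup_comm]; exact hvθ, mem_centralizer_singleton.2 (hvD' x hxD)⟩)
  · exact h.theta_inf_le_oC S ha ha1 hyE hy1
      (mem_inf.2 ⟨hvθ, mem_centralizer_singleton.2 (hvD' y hyD)⟩)

theorem isSolvableSignalizerFunctor (h : Frame X Y F E) (S : Setting X Y) :
    Cfsg.IsSolvableSignalizerFunctor 2 (F ⊔ E) (theta (F ⊔ E)) :=
  ⟨⟨fun _ _ ha1 => (theta_le_oC ha1).trans (oC_le _),
    fun _ _ ha1 => Odd.not_two_dvd_nat (h.theta_odd ha1),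
    fun a _ _ _ hb _ hx => conj_mem_of_mem_normalizer (le_normalizer_theta h.elementary a hb) hx,
    fun _ ha ha1 _ hb _ => h.balance S ha ha1 hb⟩,
    fun _ _ ha1 => OddOrder.Final.oddSolvable _ (h.theta_odd ha1)⟩

end Frame

/-- The completion of the functor. -/
def closureR (A : Subgroup G) : Subgroup G :=
  ⨆ a : {a : G // a ∈ A ∧ a ≠ 1}, theta A (a : G)

theorem Frame.closureR_spec (h : Frame X Y F E) (S : Setting X Y) :
    Odd (Nat.card (closureR (F ⊔ E))) ∧
      F ⊔ E ≤ normalizer (closureR (F ⊔ E) : Set G) ∧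
      ∀ a ∈ F ⊔ E, a ≠ 1 → closureR (F ⊔ E) ⊓ centralizer {a} = theta (F ⊔ E) a := by
  haveI := Fact.mk Nat.prime_two
  obtain ⟨hm, heq⟩ := Components.SFT.solvable_complete (p := 2) h.elementary (h.card_le S.pair)
    (h.isSolvableSignalizerFunctor S)
  exact ⟨Nat.not_even_iff_odd.1 fun he => hm.2.1 he.two_dvd,
    fun b hb => mem_normalizer_of_conj fun u hu => hm.2.2.1 b hb u hu, heq⟩

end CfsgLib.LocalEven.ProductFusion
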