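import Cfsg.Prelude.Def_Solvable
import Cfsg.Agent.Lib.Coprime.Action
import Cfsg.Agent.Lib.Coprime.Generation
import Cfsg.Agent.Lib.Involution.ZStar.Basic

/-!
# Odd cores of subgroups, commutator bookkeeping
-/

set_option autoImplicit false
set_option linter.unusedSectionVars false

namespace CfsgLib.LocalEven.ProductFusion

open Subgroup
open scoped commutatorElement

variable {G : Type*} [Group G]

/-- The odd core of a subgroup, as a subgroup of the ambient group. -/
def oc (H : Subgroup G) : Subgroup G := (Cfsg.oddCore ↥H).map H.subtype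

/-- The odd core of the centraliser of an element. -/
abbrev oC (a : G) : Subgroup G := oc (centralizer {a})

theorem mem_centralizer_singleton {a x : G} : x ∈ centralizer {a} ↔ Commute x a :=
  mem_centralizer_singleton_iff

theorem mem_centralizer_of {S : Set G} {x : G} (h : ∀ s ∈ S, Commute x s) :
    x ∈ centralizer S :=
  mem_centralizer_iff.2 fun s hs => ((h s hs).eq).symm

theorem commute_of_mem_centralizer {S : Set G} {x s : G} (h : x ∈ centralizer S) (hs : s ∈ S) :
    Commute x s :=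
  (mem_centralizer_iff.1 h s hs).symm

theorem mem_normalizer_of_conj {H : Subgroup G} {g : G} [Finite G]
    (h : ∀ x ∈ H, g * x * g⁻¹ ∈ H) : g ∈ normalizer (H : Set G) :=
  mem_normalizer_iff_map_conj_eq.2 (eq_of_le_of_card_ge (by rintro _ ⟨x, hx, rfl⟩; exact h x hx)
    (Nat.card_congr (H.equivMapOfInjective _ (MulAut.conj g).injective).toEquiv).le)

theorem conj_mem_of_mem_normalizer {H : Subgroup G} {g x : G} (hg : g ∈ normalizer (H : Set G))
    (hx : x ∈ H) : g * x * g⁻¹ ∈ H :=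
  (mem_normalizer_iff.1 hg x).1 hx

/-- An element commuting with all of `A` normalises it. -/
theorem mem_normalizer_of_commute [Finite G] {A : Subgroup G} {c : G}
    (h : ∀ a ∈ A, Commute c a) : c ∈ normalizer (A : Set G) :=
  mem_normalizer_of_conj fun a ha => by rw [(h a ha).eq, mul_inv_cancel_right]; exact ha

/-- Conjugation invariance passes to a supremum. -/
theorem conj_mem_iSup {ι : Sort*} {f : ι → Subgroup G} {g : G} {M : Subgroup G}
    (h : ∀ i, ∀ x ∈ f i, g * x * g⁻¹ ∈ M) : ∀ x ∈ ⨆ i, f i, g * x * g⁻¹ ∈ M := by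
  have : (⨆ i, f i) ≤ M.comap (MulAut.conj g).toMonoidHom := iSup_le fun i x hx => h i x hx
  exact fun x hx => this hx

theorem conj_mem_sup {U U' : Subgroup G} {g : G} {M : Subgroup G}
    (h : ∀ x ∈ U, g * x * g⁻¹ ∈ M) (h' : ∀ x ∈ U', g * x * g⁻¹ ∈ M) :
    ∀ x ∈ U ⊔ U', g * x * g⁻¹ ∈ M := by
  have : U ⊔ U' ≤ M.comap (MulAut.conj g).toMonoidHom := sup_le h h'
  exact fun x hx => this hx

theorem conj_commutatorElement (g x y : G) :
    g * ⁅x, y⁆ * g⁻¹ = ⁅g * x * g⁻¹, g * y * g⁻¹⁆ := by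
  simp [commutatorElement_def, mul_assoc]

theorem commutatorElement_mul_left (x y z : G) : ⁅x * y, z⁆ = x * ⁅y, z⁆ * x⁻¹ * ⁅x, z⁆ := by
  simp [commutatorElement_def, mul_assoc]

theorem commutatorElement_mul_right (x y z : G) : ⁅x, y * z⁆ = ⁅x, y⁆ * (y * ⁅x, z⁆ * y⁻¹) := by
  simp [commutatorElement_def, mul_assoc]

theorem conj_mem_commutator {U V : Subgroup G} {g : G} {U' V' : Subgroup G}
    (hU : ∀ x ∈ U, g * x * g⁻¹ ∈ U') (hV : ∀ x ∈ V, g * x * g⁻¹ ∈ V') :
    ∀ x ∈ ⁅U, V⁆, g * x * g⁻¹ ∈ ⁅U', V'⁆ := by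
  have : ⁅U, V⁆ ≤ ⁅U', V'⁆.comap (MulAut.conj g).toMonoidHom := commutator_le.2 fun u hu v hv => by
    show g * ⁅u, v⁆ * g⁻¹ ∈ ⁅U', V'⁆
    rw [conj_commutatorElement]
    exact commutator_mem_commutator (hU u hu) (hV v hv)
  exact fun x hx => this hx

/-- If `x = n * c` with `c` commuting with `K`, and `K` normalises `N`, then `⁅x, K⁆ ≤ N`. -/
theorem commutator_le_of_decomp {W N C K : Subgroup G} (hW : W ≤ N ⊔ C)
    (hCN : C ≤ normalizer (N : Set G)) (hKN : K ≤ normalizer (N : Set G))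
    (hCK : ∀ c ∈ C, ∀ k ∈ K, Commute c k) : ⁅W, K⁆ ≤ N := by
  refine commutator_le.2 fun w hw k hk => ?_
  obtain ⟨n, hn, c, hc, rfl⟩ := (Coprime.mem_sup_of_le_normalizer hCN).1 (hW hw)
  rw [commutatorElement_mul_left, (hCK c hc k hk).commutator_eq, mul_one, mul_inv_cancel,
    one_mul, commutatorElement_def,
    show n * k * n⁻¹ * k⁻¹ = n * (k * n⁻¹ * k⁻¹) by group]
  exact mul_mem hn (conj_mem_of_mem_normalizer (hKN hk) (inv_mem hn))

theorem normal_closure_of_conj {T : Set G} (h : ∀ g : G, ∀ x ∈ T, g * x * g⁻¹ ∈ T) :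
    (closure T).Normal :=
  ⟨fun n hn g => by
    have : closure T ≤ (closure T).comap (MulAut.conj g).toMonoidHom :=
      (closure_le _).2 fun x hx => subset_closure (h g x hx)
    exact this hn⟩

section Finite

variable [Finite G]

theorem oc_le (H : Subgroup G) : oc H ≤ H := map_subtype_le _

theorem oC_le (a : G) : oC a ≤ centralizer {a} := oc_le _

theorem commute_of_mem_oC {a x : G} (h : x ∈ oC a) : Commute x a :=
  mem_centralizer_singleton.1 (oC_le a h)

theorem odd_card_oc (H : Subgroup G) : Odd (Nat.card (oc H)) := by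
  rw [oc, Coprime.card_map_subtype]
  exact Involution.ZStar.odd_card_oddCore

theorem odd_of_le {U V : Subgroup G} (h : U ≤ V) (hV : Odd (Nat.card V)) :
    Odd (Nat.card U) :=
  hV.of_dvd_nat (card_dvd_of_le h)

theorem odd_orderOf {U : Subgroup G} (hU : Odd (Nat.card U)) {x : G} (hx : x ∈ U) :
    Odd (orderOf x) :=
  hU.of_dvd_nat (Subgroup.orderOf_dvd_natCard _ hx)

theorem sq_mem_iff {N : Subgroup G} {x : G} (hx : Odd (orderOf x)) : x * x ∈ N ↔ x ∈ N :=
  ⟨Involution.ZStar.mem_of_sq_mem hx, fun h => mul_mem h h⟩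

theorem le_oc {N H : Subgroup G} (hN : N ≤ H) (hn : H ≤ normalizer (N : Set G))
    (hodd : Odd (Nat.card N)) : N ≤ oc H := by
  have h1 : (N.subgroupOf H).Normal := (normal_subgroupOf_iff_le_normalizer hN).2 hn
  have h2 : N.subgroupOf H ≤ Cfsg.oddCore H := Involution.ZStar.le_oddCore h1 (by
    rwa [Nat.card_congr (subgroupOfEquivOfLe hN).toEquiv])
  exact fun x hx => ⟨⟨x, hN hx⟩, h2 hx, rfl⟩

theorem le_normalizer_oc (H : Subgroup G) : H ≤ normalizer (oc H : Set G) := fun h hh =>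
  mem_normalizer_of_conj fun x ⟨y, hy, e⟩ =>
    ⟨⟨h, hh⟩ * y * ⟨h, hh⟩⁻¹, (Involution.ZStar.oddCore_normal (G := H)).conj_mem y hy _,
      by simp [← e]⟩

theorem conj_mem_oc {H H' : Subgroup G} {g x : G} (hH : ∀ h, h ∈ H ↔ g * h * g⁻¹ ∈ H')
    (hx : x ∈ oc H) : g * x * g⁻¹ ∈ oc H' := by
  refine le_oc (N := (oc H).map (MulAut.conj g).toMonoidHom) ?_ ?_ ?_ ⟨x, hx, rfl⟩
  · rintro _ ⟨y, hy, rfl⟩
    exact (hH y).1 (oc_le H hy)
  · intro h hh
    refine mem_normalizer_of_conj ?_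
    rintro _ ⟨y, hy, rfl⟩
    refine ⟨(g⁻¹ * h * g) * y * (g⁻¹ * h * g)⁻¹,
      conj_mem_of_mem_normalizer (le_normalizer_oc H ((hH _).2 ?_)) hy, ?_⟩
    · rwa [show g * (g⁻¹ * h * g) * g⁻¹ = h by group]
    · simp [mul_assoc]
  · rw [← Nat.card_congr ((oc H).equivMapOfInjective _ (MulAut.conj g).injective).toEquiv]
    exact odd_card_oc H

theorem conj_mem_oC {a g x : G} (hx : x ∈ oC a) : g * x * g⁻¹ ∈ oC (g * a * g⁻¹) :=
  conj_mem_oc (fun h => by
    simp only [mem_centralizer_singleton, commute_iff_eq]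
    constructor <;> intro e
    · simp only [mul_assoc, inv_mul_cancel_left]
      rw [← mul_assoc h, e, mul_assoc]
    · simpa [mul_assoc] using congrArg (fun y => g⁻¹ * y * g) e) hx

theorem le_normalizer_oC (a : G) : centralizer {a} ≤ normalizer (oC a : Set G) :=
  le_normalizer_oc _

theorem mem_normalizer_oC_of_commute {a g : G} (h : Commute g a) :
    g ∈ normalizer (oC a : Set G) :=
  le_normalizer_oC a (mem_centralizer_singleton.2 h)

/-- A normal subgroup of a group with trivial odd core has no non-trivial subgroup of odd order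
normalised by it. -/
theorem eq_bot_of_odd (hO : Cfsg.oddCore G = ⊥) {K M : Subgroup G} [hK : K.Normal] (hMK : M ≤ K)
    (hn : K ≤ normalizer (M : Set G)) (hodd : Odd (Nat.card M)) : M = ⊥ := by
  have h1 : (oc K).Normal := ⟨fun x hx g => conj_mem_oc (fun h => ⟨fun hh => hK.conj_mem h hh g,
    fun hh => by
      have := hK.conj_mem _ hh g⁻¹
      simpa [mul_assoc] using this⟩) hx⟩
  rw [eq_bot_iff, ← hO]
  exact (le_oc hMK hn hodd).trans (Involution.ZStar.le_oddCore h1 (odd_card_oc K))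

theorem coprime_of_two_group {A U : Subgroup G} (hA : IsPGroup 2 A) (hU : Odd (Nat.card U)) :
    (Nat.card A).Coprime (Nat.card U) := by
  haveI := Fact.mk Nat.prime_two
  obtain ⟨n, hn⟩ := hA.exists_card_eq
  rw [hn]
  exact Nat.Coprime.pow_left n (Nat.coprime_two_left.2 hU)

theorem isSolvable_of_two_group {A : Subgroup G} (hA : IsPGroup 2 A) : Group.IsSolvable A := by
  haveI := Fact.mk Nat.prime_two
  have := hA.isNilpotent
  infer_instance

/-- `U = ⁅U, A⁆ C_U(A)` for a 2-group `A` and `U` of odd order. -/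
theorem split {A U : Subgroup G} (hA : IsPGroup 2 A) (hAU : A ≤ normalizer (U : Set G))
    (hU : Odd (Nat.card U)) : ⁅U, A⁆ ⊔ (U ⊓ centralizer (A : Set G)) = U :=
  Coprime.commutator_sup_centralizer hAU (coprime_of_two_group hA hU)
    (.inl (isSolvable_of_two_group hA))

theorem isPGroup_zpowers_of_sq {t : G} (ht : t * t = 1) : IsPGroup 2 (zpowers t) := by
  rintro ⟨x, i, rfl⟩
  refine ⟨1, Subtype.ext ?_⟩
  show (t ^ i) ^ (2 ^ 1) = 1
  rw [pow_one, pow_two, ← (Commute.refl t).mul_zpow, ht, one_zpow]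

theorem eq_one_or_of_mem_zpowers {t x : G} (ht : t * t = 1) (hx : x ∈ zpowers t) :
    x = 1 ∨ x = t := by
  obtain ⟨i, rfl⟩ := mem_zpowers_iff.1 hx
  rcases Int.even_or_odd' i with ⟨j, rfl | rfl⟩
  · left; rw [zpow_mul, zpow_two, ht, one_zpow]
  · right; rw [zpow_add, zpow_mul, zpow_two, ht, one_zpow, one_mul, zpow_one]

/-- The generators of `⁅U, ⟨t⟩⁆` are inverted by the involution `t`. -/
theorem commutator_zpowers_le {U M : Subgroup G} {t : G} (ht : t * t = 1)
    (htU : t ∈ normalizer (U : Set G))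
    (h : ∀ v ∈ U, t * v * t⁻¹ = v⁻¹ → v ∈ M) : ⁅U, zpowers t⁆ ≤ M := by
  refine commutator_le.2 fun u hu x hx => ?_
  rcases eq_one_or_of_mem_zpowers ht hx with rfl | rfl
  · rw [commutatorElement_one_right]; exact one_mem _
  · refine h _ ?_ ?_
    · rw [commutatorElement_def, show u * x * u⁻¹ * x⁻¹ = u * (x * u⁻¹ * x⁻¹) by group]
      exact mul_mem hu (conj_mem_of_mem_normalizer htU (inv_mem hu))
    · have hx' : x⁻¹ = x := inv_eq_of_mul_eq_one_right ht
      rw [commutatorElement_def, mul_inv_rev, mul_inv_rev, mul_inv_rev, inv_inv, inv_inv, hx']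
      simp only [← mul_assoc]
      rw [mul_assoc _ x x, ht, mul_one]

/-- An element of odd order which is inverted and centralised by `t` is trivial. -/
theorem eq_one_of_inverted {t v : G} (hv : Odd (orderOf v)) (h1 : t * v * t⁻¹ = v⁻¹)
    (h2 : Commute t v) : v = 1 := by
  rw [h2.eq, mul_inv_cancel_right] at h1
  refine Subgroup.mem_bot.1 ((sq_mem_iff hv).1 (Subgroup.mem_bot.2 ?_))
  nth_rewrite 2 [h1]
  exact mul_inv_cancel v

end Finite

/-- The elements of the normaliser of `O` centralising `T` modulo `O`. -/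
def modCentralizer (O : Subgroup G) (T : Set G) : Subgroup G where
  carrier := {h | h ∈ normalizer (O : Set G) ∧ ∀ x ∈ T, ⁅h, x⁆ ∈ O}
  one_mem' := ⟨one_mem _, fun x _ => by rw [commutatorElement_one_left]; exact one_mem _⟩
  mul_mem' := fun {a b} ha hb => ⟨mul_mem ha.1 hb.1, fun x hx => by
    rw [commutatorElement_mul_left]
    exact mul_mem (conj_mem_of_mem_normalizer ha.1 (hb.2 x hx)) (ha.2 x hx)⟩
  inv_mem' := fun {a} ha => ⟨inv_mem ha.1, fun x hx => by
    have := conj_mem_of_mem_normalizer (inv_mem ha.1) (inv_mem (ha.2 x hx))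
    simpa [commutatorElement_def, mul_assoc] using this⟩

theorem mem_modCentralizer {O : Subgroup G} {T : Set G} {h : G} :
    h ∈ modCentralizer O T ↔ h ∈ normalizer (O : Set G) ∧ ∀ x ∈ T, ⁅h, x⁆ ∈ O :=
  Iff.rfl

theorem conj_mem_modCentralizer {O : Subgroup G} {T : Set G} {g h : G}
    (hg : g ∈ normalizer (O : Set G)) (hT : ∀ x ∈ T, g⁻¹ * x * g ∈ T)
    (hh : h ∈ modCentralizer O T) : g * h * g⁻¹ ∈ modCentralizer O T :=
  ⟨mul_mem (mul_mem hg hh.1) (inv_mem hg), fun x hx => by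
    have := conj_mem_of_mem_normalizer hg (hh.2 _ (hT x hx))
    simpa [commutatorElement_def, mul_assoc] using this⟩

end CfsgLib.LocalEven.ProductFusion
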