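import Cfsg.Agent.Lib.LocalEven.ProductFusion.Pair

/-!
# What the theorem says in a proper subgroup
-/

set_option autoImplicit false
set_option linter.unusedSectionVars false
set_option linter.style.haveILetI false

namespace CfsgLib.LocalEven.ProductFusion

open Subgroup
open scoped commutatorElement

section Inside

variable {H : Type*} [Group H] [Finite H] {X Y : Set H}

/-- If the two classes commute modulo the odd core, a subgroup of odd order centralising `a` in
`X` and normalised by `C(a)` centralises `Y` modulo the odd core, and lies in it once it also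
centralises `X` modulo the odd core. -/
theorem centralises_of_normalized (h : Pair X Y)
    (hcomm : ∀ x ∈ X, ∀ y ∈ Y, ⁅x, y⁆ ∈ Cfsg.oddCore H) {a : H} (ha : a ∈ X) {N : Subgroup H}
    (hN : N ≤ centralizer {a}) (hodd : Odd (Nat.card N))
    (hn : centralizer {a} ≤ normalizer (N : Set H)) :
    (∀ v ∈ N, ∀ y ∈ Y, ⁅v, y⁆ ∈ Cfsg.oddCore H) ∧
      ∀ v ∈ N, (∀ x ∈ X, ⁅v, x⁆ ∈ Cfsg.oddCore H) → v ∈ Cfsg.oddCore H := by
  haveI := Fact.mk Nat.prime_two
  haveI := Involution.ZStar.oddCore_normal (G := H)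
  set O := Cfsg.oddCore H with hOdef
  set π := QuotientGroup.mk' O with hπdef
  have hπ : Function.Surjective π := QuotientGroup.mk'_surjective O
  have hker : ∀ g, π g = 1 ↔ g ∈ O := fun g => QuotientGroup.eq_one_iff g
  have hO : Cfsg.oddCore (H ⧸ O) = ⊥ := Involution.ZStar.oddCore_quotient
  have hbr : ∀ g g', ⁅g, g'⁆ ∈ O ↔ ⁅π g, π g'⁆ = 1 := fun g g' => by
    rw [← map_commutatorElement, hker]
  have hC : ∀ q : H ⧸ O, Commute q (π a) → q ∈ (centralizer {a}).map π := by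
    intro q hq
    obtain ⟨k, rfl⟩ := hπ q
    obtain ⟨c, hc, hcO⟩ := Coprime.exists_centralizer_inv_mul_mem (A := zpowers a) (K := ⊤) (N := O)
      (by rw [normalizer_eq_top]; exact le_top) le_top (by rw [normalizer_eq_top])
      (coprime_of_two_group (h.two_left a ha) Involution.ZStar.odd_card_oddCore)
      (.inl (Coprime.isSolvable_zpowers a)) (k := k) (mem_top k) fun b hb => by
        obtain ⟨i, rfl⟩ := mem_zpowers_iff.1 hb
        rw [hbr, map_zpow]
        exact ((hq.symm.zpow_left i)).commutator_eq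
    refine ⟨c, ?_, ?_⟩
    · exact mem_centralizer_singleton.2
        (commute_of_mem_centralizer (mem_inf.1 hc).2 (mem_zpowers a))
    · refine inv_mul_eq_one.1 ?_ |>.symm
      rw [← map_inv, ← map_mul, hker]
      exact hcO
  have hNC : ∀ q ∈ N.map π, Commute q (π a) := by
    rintro _ ⟨v, hv, rfl⟩
    exact (mem_centralizer_singleton.1 (hN hv)).map π
  have hnN : ∀ q : H ⧸ O, Commute q (π a) → q ∈ normalizer (N.map π : Set (H ⧸ O)) := fun q hq => by
    obtain ⟨c, hc, rfl⟩ := hC q hq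
    refine mem_normalizer_of_conj ?_
    rintro _ ⟨v, hv, rfl⟩
    exact ⟨c * v * c⁻¹, conj_mem_of_mem_normalizer (hn hc) hv, by simp⟩
  have hoddN : Odd (Nat.card ↥(N.map π)) := hodd.of_dvd_nat (card_map_dvd N π)
  -- the subgroup generated by the image of `Y`
  set YY := closure (π '' Y) with hYY
  haveI hYn : YY.Normal := normal_closure_of_conj (by
    rintro q _ ⟨y, hy, rfl⟩
    obtain ⟨g, rfl⟩ := hπ q
    exact ⟨_, h.conj_right g y hy, by simp⟩)
  have hYa : ∀ q ∈ YY, Commute q (π a) := by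
    have : YY ≤ centralizer {π a} := (closure_le _).2 (by
      rintro _ ⟨y, hy, rfl⟩
      exact mem_centralizer_singleton.2
        (commutatorElement_eq_one_iff_commute.1 ((hbr a y).1 (hcomm a ha y hy))).symm)
    exact fun q hq => mem_centralizer_singleton.1 (this hq)
  have hbot : N.map π ⊓ YY = ⊥ := eq_bot_of_odd hO inf_le_right
    ((le_inf (fun q hq => hnN q (hYa q hq)) Subgroup.le_normalizer).trans
      inf_normalizer_le_normalizer_inf) (odd_of_le inf_le_left hoddN)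
  refine ⟨fun v hv y hy => ?_, fun v hv hvX => ?_⟩
  · rw [hbr, ← Subgroup.mem_bot, ← hbot]
    have hyY : π y ∈ YY := subset_closure ⟨y, hy, rfl⟩
    refine mem_inf.2 ⟨?_, ?_⟩
    · rw [commutatorElement_def, mul_assoc, mul_assoc, ← mul_assoc (π y)]
      exact mul_mem ⟨v, hv, rfl⟩ (conj_mem_of_mem_normalizer (hnN _ (hYa _ hyY))
        (Subgroup.inv_mem _ ⟨v, hv, rfl⟩))
    · rw [commutatorElement_def]
      exact mul_mem (hYn.conj_mem _ hyY _) (Subgroup.inv_mem _ hyY)
  · set Z := centralizer (π '' X) with hZ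
    haveI : Z.Normal := ⟨fun z hz q => mem_centralizer_of fun w hw => by
      obtain ⟨x, hx, rfl⟩ := hw
      obtain ⟨g, rfl⟩ := hπ q
      have h1 : Commute z (π (g⁻¹ * x * g)) :=
        commute_of_mem_centralizer hz ⟨_, h.conj_left' g hx, rfl⟩
      have h2 := h1.map (MulAut.conj (π g)).toMonoidHom
      simpa [mul_assoc] using h2⟩
    have hZa : ∀ q ∈ Z, Commute q (π a) := fun q hq =>
      commute_of_mem_centralizer hq ⟨a, ha, rfl⟩
    have hbot' : N.map π ⊓ Z = ⊥ := eq_bot_of_odd hO inf_le_right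
      ((le_inf (fun q hq => hnN q (hZa q hq)) Subgroup.le_normalizer).trans
        inf_normalizer_le_normalizer_inf) (odd_of_le inf_le_left hoddN)
    rw [← hker, ← Subgroup.mem_bot, ← hbot']
    refine mem_inf.2 ⟨⟨v, hv, rfl⟩, mem_centralizer_of ?_⟩
    rintro _ ⟨x, hx, rfl⟩
    exact commutatorElement_eq_one_iff_commute.1 ((hbr v x).1 (hvX x hx))

/-- An element of odd order inverted by `a ∈ X` and by `b ∈ Y` lies in the odd core. -/
theorem mem_oddCore_of_inverted (h : Pair X Y)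
    (hcomm : ∀ x ∈ X, ∀ y ∈ Y, ⁅x, y⁆ ∈ Cfsg.oddCore H) {a b v : H} (ha : a ∈ X) (hb : b ∈ Y)
    (hv : Odd (orderOf v)) (hav : a * v * a⁻¹ = v⁻¹) (hbv : b * v * b⁻¹ = v⁻¹) :
    v ∈ Cfsg.oddCore H := by
  haveI := Involution.ZStar.oddCore_normal (G := H)
  set O := Cfsg.oddCore H with hOdef
  set π := QuotientGroup.mk' O with hπdef
  have hπ : Function.Surjective π := QuotientGroup.mk'_surjective O
  have hker : ∀ g, π g = 1 ↔ g ∈ O := fun g => QuotientGroup.eq_one_iff g
  have hsq : ∀ c : H, c * v * c⁻¹ = v⁻¹ → v * v = v * c * v⁻¹ * c⁻¹ := fun c hc => by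
    have h1 : c * v⁻¹ * c⁻¹ = v := by
      have := congrArg (·⁻¹) hc
      simpa [mul_assoc] using this
    conv_lhs => arg 2; rw [← h1]
    group
  have hsqX : π v * π v ∈ closure (π '' X) := by
    rw [← map_mul, hsq a hav, map_mul]
    exact mul_mem (subset_closure ⟨_, h.conj_left v a ha, rfl⟩)
      (subset_closure ⟨_, h.inv_mem ha, rfl⟩)
  have hsqY : π v * π v ∈ closure (π '' Y) := by
    rw [← map_mul, hsq b hbv, map_mul]
    exact mul_mem (subset_closure ⟨_, h.conj_right v b hb, rfl⟩)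
      (subset_closure ⟨_, h.symm.inv_mem hb, rfl⟩)
  have hYa : closure (π '' Y) ≤ centralizer {π a} := (closure_le _).2 (by
    rintro _ ⟨y, hy, rfl⟩
    refine mem_centralizer_singleton.2 (commutatorElement_eq_one_iff_commute.1 ?_).symm
    rw [← map_commutatorElement, hker]
    exact hcomm a ha y hy)
  have h1 : Commute (π v * π v) (π a) := mem_centralizer_singleton.1 (hYa hsqY)
  have hvπ : Odd (orderOf (π v)) := hv.of_dvd_nat (orderOf_map_dvd π v)
  have h2 : π v * π v = 1 := by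
    refine eq_one_of_inverted (hvπ.of_dvd_nat ?_) ?_ h1.symm
    · rw [← pow_two]; exact orderOf_pow_dvd 2
    · rw [← map_mul, ← map_inv, ← map_inv, ← map_mul, ← map_mul]
      refine congrArg π ?_
      calc a * (v * v) * a⁻¹ = (a * v * a⁻¹) * (a * v * a⁻¹) := by group
        _ = (v * v)⁻¹ := by rw [hav, mul_inv_rev]
  rw [← hker, ← Subgroup.mem_bot]
  exact (sq_mem_iff hvπ).1 (Subgroup.mem_bot.2 h2)

end Inside

/-- The data of a minimal counterexample, reduced. -/
structure Setting {G : Type*} [Group G] (X Y : Set G) : Prop where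
  pair : Pair X Y
  core : Cfsg.oddCore G = ⊥
  locl : ∀ H : Subgroup G, H ≠ ⊤ → ∀ x ∈ X, x ∈ H → ∀ y ∈ Y, y ∈ H → ⁅x, y⁆ ∈ oc H
  noncentral_left : ∀ x ∈ X, orderOf x = 2 → centralizer {x} ≠ ⊤
  noncentral_right : ∀ y ∈ Y, orderOf y = 2 → centralizer {y} ≠ ⊤

variable {G : Type*} [Group G] [Finite G] {X Y : Set G}

theorem Setting.symm (S : Setting X Y) : Setting Y X :=
  ⟨S.pair.symm, S.core, fun H hH y hy hyH x hx hxH => by
    rw [← commutatorElement_inv]
    exact inv_mem (S.locl H hH x hx hxH y hy hyH), S.noncentral_right, S.noncentral_left⟩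

theorem mem_oc_coe {H : Subgroup G} {v : H} : (v : G) ∈ oc H ↔ v ∈ Cfsg.oddCore H :=
  ⟨fun ⟨_, hw, e⟩ => H.subtype_injective e ▸ hw, fun h => ⟨v, h, rfl⟩⟩

theorem Setting.locl' (S : Setting X Y) {H : Subgroup G} (hH : H ≠ ⊤) :
    ∀ x ∈ {x : H | (x : G) ∈ X}, ∀ y ∈ {y : H | (y : G) ∈ Y}, ⁅x, y⁆ ∈ Cfsg.oddCore H :=
  fun x hx y hy => mem_oc_coe.1 (by
    rw [show ((⁅x, y⁆ : H) : G) = ⁅(x : G), (y : G)⁆ by simp [commutatorElement_def]]
    exact S.locl H hH _ hx x.2 _ hy y.2)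

/-- `(I)`: a subgroup of odd order centralising `a` and normalised by `C_H(a)`. -/
theorem Setting.centralises (S : Setting X Y) {H : Subgroup G} (hH : H ≠ ⊤) {a : G} (ha : a ∈ X)
    (haH : a ∈ H) {N : Subgroup G} (hNH : N ≤ H) (hN : N ≤ centralizer {a})
    (hodd : Odd (Nat.card N)) (hn : H ⊓ centralizer {a} ≤ normalizer (N : Set G)) :
    (∀ v ∈ N, ∀ y ∈ Y, y ∈ H → ⁅v, y⁆ ∈ oc H) ∧
      ∀ v ∈ N, (∀ x ∈ X, x ∈ H → ⁅v, x⁆ ∈ oc H) → v ∈ oc H := by
  have hC : ∀ c : H, c ∈ centralizer {(⟨a, haH⟩ : H)} ↔ Commute (c : G) a := fun c => by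
    rw [mem_centralizer_singleton]
    exact ⟨fun h => h.map H.subtype, fun h => Subtype.ext h.eq⟩
  obtain ⟨h1, h2⟩ := centralises_of_normalized (S.pair.subgroup H) (S.locl' hH)
    (a := ⟨a, haH⟩) ha (N := N.subgroupOf H)
    (fun v hv => (hC v).2 (mem_centralizer_singleton.1 (hN hv)))
    (by rwa [Nat.card_congr (subgroupOfEquivOfLe hNH).toEquiv])
    (fun c hc => mem_normalizer_of_conj fun v hv => mem_subgroupOf.2 (by
      rw [coe_mul, coe_mul, coe_inv]
      exact conj_mem_of_mem_normalizer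
        (hn (mem_inf.2 ⟨c.2, mem_centralizer_singleton.2 ((hC c).1 hc)⟩)) hv))
  refine ⟨fun v hv y hy hyH => ?_, fun v hv hvX => ?_⟩
  · have := mem_oc_coe.2 (h1 ⟨v, hNH hv⟩ hv ⟨y, hyH⟩ hy)
    simpa [commutatorElement_def] using this
  · exact mem_oc_coe.2 (h2 ⟨v, hNH hv⟩ hv fun x hx => mem_oc_coe.1 (by
      simpa [commutatorElement_def] using hvX x hx x.2))

/-- `(I)` with an inverting element of `Y`. -/
theorem Setting.mem_oc_of_inverted_right (S : Setting X Y) {H : Subgroup G} (hH : H ≠ ⊤) {a : G}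
    (ha : a ∈ X) (haH : a ∈ H) {N : Subgroup G} (hNH : N ≤ H) (hN : N ≤ centralizer {a})
    (hodd : Odd (Nat.card N)) (hn : H ⊓ centralizer {a} ≤ normalizer (N : Set G)) {v b : G}
    (hv : v ∈ N) (hb : b ∈ Y) (hbH : b ∈ H) (hbv : b * v * b⁻¹ = v⁻¹) : v ∈ oc H := by
  have h1 := (S.centralises hH ha haH hNH hN hodd hn).1 v hv b hb hbH
  have h2 : b * v⁻¹ * b⁻¹ = v := by
    have := congrArg (·⁻¹) hbv
    simpa [mul_assoc] using this
  refine (sq_mem_iff (odd_orderOf hodd hv)).1 ?_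
  rwa [commutatorElement_def, mul_assoc, mul_assoc, ← mul_assoc b, h2] at h1

/-- Generalised form of the intersection of two odd cores. -/
theorem Setting.inf_le_oc (S : Setting X Y) {H : Subgroup G} (hH : H ≠ ⊤) {a b : G} (ha : a ∈ X)
    (haH : a ∈ H) (hb : b ∈ Y) (hbH : b ∈ H) {v : G} (hva : v ∈ oC a) (hvb : v ∈ oC b)
    (hvH : v ∈ H) : v ∈ oc H := by
  have hn : ∀ c : G, c ∈ H → H ⊓ centralizer {c} ≤ normalizer ((oC c ⊓ H : Subgroup G) : Set G) :=
    fun c _ => (le_inf (inf_le_right.trans (le_normalizer_oC c))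
      (inf_le_left.trans Subgroup.le_normalizer)).trans inf_normalizer_le_normalizer_inf
  refine (S.centralises hH ha haH inf_le_right (inf_le_left.trans (oC_le a))
    (odd_of_le inf_le_left (odd_card_oc _)) (hn a haH)).2 v (mem_inf.2 ⟨hva, hvH⟩) ?_
  intro x hx hxH
  exact (S.symm.centralises hH hb hbH inf_le_right (inf_le_left.trans (oC_le b))
    (odd_of_le inf_le_left (odd_card_oc _)) (hn b hbH)).1 v (mem_inf.2 ⟨hvb, hvH⟩) x hx hxH

/-- `(III)`. -/
theorem Setting.mem_oc_of_inverted (S : Setting X Y) {H : Subgroup G} (hH : H ≠ ⊤) {a b v : G}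
    (ha : a ∈ X) (haH : a ∈ H) (hb : b ∈ Y) (hbH : b ∈ H) (hvH : v ∈ H) (hv : Odd (orderOf v))
    (hav : a * v * a⁻¹ = v⁻¹) (hbv : b * v * b⁻¹ = v⁻¹) : v ∈ oc H :=
  mem_oc_coe.2 (mem_oddCore_of_inverted (v := ⟨v, hvH⟩) (S.pair.subgroup H) (S.locl' hH)
    (a := ⟨a, haH⟩) (b := ⟨b, hbH⟩) ha hb (by rwa [← Subgroup.orderOf_coe])
    (Subtype.ext (by simpa using hav)) (Subtype.ext (by simpa using hbv)))

end CfsgLib.LocalEven.ProductFusion
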