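import Cfsg.Prelude.Def_Transfer
import Cfsg.Agent.Lib.LocalEven.ProductFusion.Local
import Cfsg.Agent.Lib.Components.Signalizer.Basic
import Cfsg.Agent.Lib.Involution.ZStar.Main

/-!
# Frames: a pair of four groups in the two classes, and their functor
-/

set_option autoImplicit false
set_option linter.unusedSectionVars false
set_option linter.style.haveILetI false

namespace CfsgLib.LocalEven.ProductFusion

open Subgroup
open scoped commutatorElement

variable {G : Type*} [Group G] [Finite G] {X Y : Set G}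

/-- Four groups `F` in `X` and `E` in `Y` which centralise each other. -/
structure Frame (X Y : Set G) (F E : Subgroup G) : Prop where
  card_F : Nat.card F = 4
  card_E : Nat.card E = 4
  subX : ∀ f ∈ F, f ∈ X
  subY : ∀ e ∈ E, e ∈ Y
  sqF : ∀ f ∈ F, f * f = 1
  sqE : ∀ e ∈ E, e * e = 1
  comm : ∀ f ∈ F, ∀ e ∈ E, Commute f e

theorem orderOf_two_of_sq {x : G} (h : x * x = 1) (h1 : x ≠ 1) : orderOf x = 2 :=
  Involution.Dihedral.orderOf_eq_two h h1

theorem commute_of_sq {H : Subgroup G} (h : ∀ x ∈ H, x * x = 1) {a b : G} (ha : a ∈ H)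
    (hb : b ∈ H) : Commute a b := by
  have hinv : ∀ x ∈ H, x⁻¹ = x := fun x hx => inv_eq_of_mul_eq_one_right (h x hx)
  show a * b = b * a
  conv_rhs => rw [← hinv b hb, ← hinv a ha, ← mul_inv_rev]
  exact (hinv _ (mul_mem ha hb)).symm

theorem isMulCommutative_of_sq {H : Subgroup G} (h : ∀ x ∈ H, x * x = 1) : IsMulCommutative H :=
  ⟨⟨fun a b => Subtype.ext (commute_of_sq h a.2 b.2).eq⟩⟩

/-- Two distinct involutions of a four group generate it. -/
theorem four_le {H D : Subgroup G} (hH : Nat.card H = 4) {x y : G} (hx : x ∈ H) (hxD : x ∈ D)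
    (hy : y ∈ H) (hyD : y ∈ D) (hx1 : x ≠ 1) (hy1 : y ≠ 1) (hxy : x ≠ y) : H ≤ D := by
  have h1 : 2 < Nat.card ↥(H ⊓ D) := by
    let f : Fin 3 → ↥(H ⊓ D) := ![1, ⟨x, hx, hxD⟩, ⟨y, hy, hyD⟩]
    have hf : Function.Injective f := by
      intro i j hij
      have := congrArg (fun z : ↥(H ⊓ D) => (z : G)) hij
      fin_cases i <;> fin_cases j <;> first
        | rfl
        | exact absurd this hx1
        | exact absurd this.symm hx1
        | exact absurd this hy1
        | exact absurd this.symm hy1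
        | exact absurd this hxy
        | exact absurd this.symm hxy
    have := Nat.card_le_card_of_injective f hf
    rw [Nat.card_fin] at this
    omega
  have h2 : Nat.card ↥(H ⊓ D) ∣ 4 := hH ▸ card_dvd_of_le inf_le_left
  have h3 : Nat.card ↥(H ⊓ D) = 4 := by
    have h4 := Nat.le_of_dvd (by norm_num) h2
    interval_cases hn : Nat.card ↥(H ⊓ D) <;> omega
  exact inf_eq_left.1 (eq_of_le_of_card_ge inf_le_left (by omega))

theorem not_isCyclic_of_four {H : Subgroup G} (hH : Nat.card H = 4) (h : ∀ x ∈ H, x * x = 1) :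
    ¬ IsCyclic H := by
  intro hc
  obtain ⟨g, hg⟩ := hc.exists_ofOrder_eq_natCard
  rw [hH] at hg
  have h2 : orderOf g ∣ 2 :=
    orderOf_dvd_iff_pow_eq_one.2 (Subtype.ext (by rw [pow_two]; exact h g g.2))
  rw [hg] at h2
  exact absurd (Nat.le_of_dvd two_pos h2) (by norm_num)

theorem isPGroup_of_sq {H : Subgroup G} (h : ∀ x ∈ H, x * x = 1) : IsPGroup 2 H :=
  fun x => ⟨1, Subtype.ext (by rw [pow_one, pow_two]; exact h x x.2)⟩

namespace Frame

variable {F E : Subgroup G}

theorem symm (h : Frame X Y F E) : Frame Y X E F :=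
  ⟨h.card_E, h.card_F, h.subY, h.subX, h.sqE, h.sqF, fun e he f hf => (h.comm f hf e he).symm⟩

theorem le_normalizer (h : Frame X Y F E) : E ≤ normalizer (F : Set G) := fun e he =>
  mem_normalizer_of_commute fun f hf => (h.comm f hf e he).symm

theorem mem_sup_iff (h : Frame X Y F E) {a : G} :
    a ∈ F ⊔ E ↔ ∃ f ∈ F, ∃ e ∈ E, f * e = a :=
  (Coprime.mem_sup_of_le_normalizer h.le_normalizer)

theorem sq_mem (h : Frame X Y F E) {a : G} (ha : a ∈ F ⊔ E) : a * a = 1 := by
  obtain ⟨f, hf, e, he, rfl⟩ := h.mem_sup_iff.1 ha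
  rw [mul_assoc, ← mul_assoc e, (h.comm f hf e he).symm.eq, mul_assoc f, h.sqE e he, mul_one,
    h.sqF f hf]

theorem commute (h : Frame X Y F E) {a b : G} (ha : a ∈ F ⊔ E) (hb : b ∈ F ⊔ E) : Commute a b :=
  commute_of_sq (fun _ hx => h.sq_mem hx) ha hb

theorem elementary (h : Frame X Y F E) : Cfsg.IsElementaryAbelian 2 (F ⊔ E) :=
  ⟨isMulCommutative_of_sq fun _ hx => h.sq_mem hx, fun a ha => by rw [pow_two]; exact h.sq_mem ha⟩

theorem isPGroup (h : Frame X Y F E) : IsPGroup 2 ↥(F ⊔ E) :=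
  isPGroup_of_sq fun _ hx => h.sq_mem hx

theorem inf_eq_bot (h : Frame X Y F E) (hp : Pair X Y) : F ⊓ E = ⊥ :=
  eq_bot_iff.2 fun x hx =>
    Subgroup.mem_bot.2 (hp.disjoint x (h.subX x (mem_inf.1 hx).1) (h.subY x (mem_inf.1 hx).2))

theorem card_le (h : Frame X Y F E) (hp : Pair X Y) : 2 ^ 3 ≤ Nat.card ↥(F ⊔ E) := by
  let f : F × E → ↥(F ⊔ E) := fun q =>
    ⟨q.1 * q.2, mul_mem (mem_sup_left q.1.2) (mem_sup_right q.2.2)⟩
  have hf : Function.Injective f := by
    rintro ⟨a, b⟩ ⟨a', b'⟩ hab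
    have h1 : (a : G) * b = a' * b' := congrArg Subtype.val hab
    have h2 : (a' : G)⁻¹ * a = b' * (b : G)⁻¹ := by
      rw [eq_mul_inv_iff_mul_eq, mul_assoc, h1, inv_mul_cancel_left]
    have h3 : (a' : G)⁻¹ * a ∈ F ⊓ E := mem_inf.2
      ⟨mul_mem (inv_mem a'.2) a.2, h2 ▸ mul_mem b'.2 (inv_mem b.2)⟩
    rw [h.inf_eq_bot hp, Subgroup.mem_bot, inv_mul_eq_one] at h3
    have ha : a = a' := Subtype.ext h3.symm
    subst ha
    exact Prod.ext rfl (Subtype.ext (mul_left_cancel h1))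
  have := Nat.card_le_card_of_injective f hf
  rw [Nat.card_prod, h.card_F, h.card_E] at this
  omega

theorem exists_ne_one_F (h : Frame X Y F E) : ∃ x ∈ F, x ≠ 1 :=
  F.bot_or_exists_ne_one.resolve_left fun e => by
    have h4 := h.card_F
    rw [e, Subgroup.card_bot] at h4
    omega

theorem orderOf_F (h : Frame X Y F E) {x : G} (hx : x ∈ F) (hx1 : x ≠ 1) : orderOf x = 2 :=
  orderOf_two_of_sq (h.sqF x hx) hx1

end Frame

/-- A subgroup of index at most two in `A`. -/
def Hyp (A D : Subgroup G) : Prop := D ≤ A ∧ D.relIndex A ≤ 2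

namespace Hyp

variable {A D : Subgroup G}

theorem self (A : Subgroup G) : Hyp A A := ⟨le_rfl, by rw [relIndex_self]; omega⟩

theorem mono (h : Hyp A D) {D' : Subgroup G} (hD : D ≤ D') (hD' : D' ≤ A) : Hyp A D' :=
  ⟨hD', (Nat.le_of_dvd (Nat.pos_of_ne_zero (Subgroup.FiniteIndex.index_ne_zero
    (H := D.subgroupOf A))) (relIndex_dvd_of_le_left A hD)).trans h.2⟩

theorem mul_mem_of_not_mem (h : Hyp A D) {s t : G} (hs : s ∈ A) (ht : t ∈ A) (hs' : s ∉ D)
    (ht' : t ∉ D) : s * t ∈ D := by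
  have h2 : (D.subgroupOf A).index = 2 := by
    rcases Nat.lt_or_ge (D.relIndex A) 2 with hlt | hge
    · have h1 : D.relIndex A = 1 := by
        have := Subgroup.FiniteIndex.index_ne_zero (H := D.subgroupOf A)
        change D.relIndex A ≠ 0 at this
        omega
      exact absurd (relIndex_eq_one.1 h1 hs) hs'
    · exact le_antisymm h.2 hge
  exact mem_subgroupOf.1 ((mul_mem_iff_of_index_two h2 (a := ⟨s, hs⟩) (b := ⟨t, ht⟩)).2
    (by simp [mem_subgroupOf, hs', ht']))

theorem commute_all (h : Hyp A D) {t v : G} (ht : t ∈ A) (htD : t ∉ D)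
    (hD : ∀ d ∈ D, Commute v d) (hvt : Commute v t) : ∀ a ∈ A, Commute v a := fun a ha => by
  by_cases haD : a ∈ D
  · exact hD a haD
  · have := (hD _ (h.mul_mem_of_not_mem ha ht haD htD)).mul_right hvt.inv_right
    simpa using this

end Hyp

theorem Frame.exists_mem_hyp {F E D : Subgroup G} (h : Frame X Y F E) (hD : Hyp (F ⊔ E) D) :
    ∃ x ∈ F, x ∈ D ∧ x ≠ 1 := by
  by_contra hne
  push_neg at hne
  have h1 : D.relIndex F ≤ 2 := (relIndex_le_of_le_right le_sup_left
    (Subgroup.FiniteIndex.index_ne_zero (H := D.subgroupOf (F ⊔ E)))).trans hD.2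
  have h2 : D.subgroupOf F = ⊥ := eq_bot_iff.2 fun x hx =>
    Subgroup.mem_bot.2 (Subtype.ext (hne x x.2 (mem_subgroupOf.1 hx)))
  rw [Subgroup.relIndex, h2, index_bot, h.card_F] at h1
  omega

/-- The intersection of the odd cores of the centralisers of the elements of `D`. -/
def gam (D : Subgroup G) : Subgroup G := ⨅ c : {c : G // c ∈ D ∧ c ≠ 1}, oC (c : G)

/-- The functor. -/
def theta (A : Subgroup G) (a : G) : Subgroup G :=
  ⨆ D : {D : Subgroup G // Hyp A D ∧ a ∈ D}, gam (D : Subgroup G)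

theorem mem_gam {D : Subgroup G} {v : G} : v ∈ gam D ↔ ∀ c ∈ D, c ≠ 1 → v ∈ oC c := by
  simp only [gam, mem_iInf, Subtype.forall, and_imp]

theorem commute_of_mem_gam {D : Subgroup G} {v d : G} (hv : v ∈ gam D) (hd : d ∈ D) :
    Commute v d := by
  by_cases h1 : d = 1
  · rw [h1]; exact Commute.one_right v
  · exact commute_of_mem_oC (mem_gam.1 hv d hd h1)

theorem gam_le_theta {A D : Subgroup G} {a : G} (hD : Hyp A D) (ha : a ∈ D) :
    gam D ≤ theta A a :=
  le_iSup (fun D : {D : Subgroup G // Hyp A D ∧ a ∈ D} => gam (D : Subgroup G)) ⟨D, hD, ha⟩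

theorem theta_le_oC {A : Subgroup G} {a : G} (ha : a ≠ 1) : theta A a ≤ oC a :=
  iSup_le fun D => fun _ hv => mem_gam.1 hv a D.2.2 ha

theorem conj_mem_gam {D : Subgroup G} {g : G} (hg : ∀ c ∈ D, Commute g c) {v : G}
    (hv : v ∈ gam D) : g * v * g⁻¹ ∈ gam D :=
  mem_gam.2 fun c hc hc1 =>
    conj_mem_of_mem_normalizer (mem_normalizer_oC_of_commute (hg c hc)) (mem_gam.1 hv c hc hc1)

theorem le_normalizer_gam {A D : Subgroup G} (hA : Cfsg.IsElementaryAbelian 2 A) (hD : D ≤ A) :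
    A ≤ normalizer (gam D : Set G) := fun g hg => mem_normalizer_of_conj fun _ hv =>
  conj_mem_gam (fun _ hc => Components.Signalizer.commute_of_mem hA hg (hD hc)) hv

theorem le_normalizer_theta {A : Subgroup G} (hA : Cfsg.IsElementaryAbelian 2 A) (a : G) :
    A ≤ normalizer (theta A a : Set G) := fun g hg => mem_normalizer_of_conj
  (conj_mem_iSup fun D _ hv => gam_le_theta D.2.1 D.2.2
    (conj_mem_of_mem_normalizer (le_normalizer_gam hA D.2.1.1 hg) hv))

/-- Generation by fixed points of hyperplanes. -/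
theorem le_of_pieces {A U M : Subgroup G} (hA : Cfsg.IsElementaryAbelian 2 A)
    (hAU : A ≤ normalizer (U : Set G)) (hodd : Odd (Nat.card U))
    (h : ∀ D, Hyp A D → ∀ v ∈ U, (∀ d ∈ D, Commute v d) → v ∈ M) : U ≤ M := by
  haveI := Fact.mk Nat.prime_two
  refine (Components.Signalizer.le_iSup_centralizer_hyperplanes hA le_rfl
    (Odd.not_two_dvd_nat hodd) hAU).trans (iSup_le fun D v hv => ?_)
  exact h D.1 D.2 v (mem_inf.1 hv).1 fun d hd => commute_of_mem_centralizer (mem_inf.1 hv).2 hd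

/-- Splitting a piece by an element outside the hyperplane. -/
theorem mem_of_piece {A D U M : Subgroup G} (hA : Cfsg.IsElementaryAbelian 2 A) (hD : Hyp A D)
    (hAU : A ≤ normalizer (U : Set G)) (hodd : Odd (Nat.card U)) {t : G} (ht : t ∈ A)
    (htD : t ∉ D) (hfix : ∀ v ∈ U, (∀ a ∈ A, Commute v a) → v ∈ M)
    (hinv : ∀ v ∈ U, (∀ d ∈ D, Commute v d) → t * v * t⁻¹ = v⁻¹ → v ∈ M) {v : G} (hv : v ∈ U)
    (hvD : ∀ d ∈ D, Commute v d) : v ∈ M := by
  set U' := U ⊓ centralizer (D : Set G) with hU'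
  have htt : t * t = 1 := by rw [← pow_two]; exact hA.2 t ht
  have hnU : A ≤ normalizer (U' : Set G) :=
    Components.Signalizer.le_normalizer_inf_centralizer hA hAU hD.1
  have hle : U' ≤ M := by
    rw [← split (A := zpowers t) (U := U') (isPGroup_zpowers_of_sq htt)
      ((zpowers_le.2 ht).trans hnU) (odd_of_le inf_le_left hodd)]
    refine sup_le (commutator_zpowers_le htt (hnU ht) fun w hw hwt =>
      hinv w (mem_inf.1 hw).1 (fun d hd => commute_of_mem_centralizer (mem_inf.1 hw).2 hd) hwt)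
      fun w hw => ?_
    obtain ⟨hwU, hwt⟩ := mem_inf.1 hw
    exact hfix w (mem_inf.1 hwU).1 (hD.commute_all ht htD
      (fun d hd => commute_of_mem_centralizer (mem_inf.1 hwU).2 hd)
      (commute_of_mem_centralizer hwt (mem_zpowers t)))
  exact hle (mem_inf.2 ⟨hv, mem_centralizer_of hvD⟩)

/-! ### Centralisers in a reduced minimal counterexample are proper -/

theorem Setting.exists_conj_ne (S : Setting X Y) {x : G} (hx : x ∈ X) (h2 : orderOf x = 2) :
    ∃ g : G, Commute x (g * x * g⁻¹) ∧ g * x * g⁻¹ ≠ x := by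
  by_contra hne
  push_neg at hne
  refine S.noncentral_left x hx h2 (eq_top_iff.2 fun g _ => mem_centralizer_singleton.2 ?_)
  have h1 := Involution.ZStar.comm_mem_oddCore (z := x) ⟨h2, hne⟩ g
  rw [S.core, Subgroup.mem_bot, mul_inv_eq_one, mul_inv_eq_iff_eq_mul] at h1
  exact h1.symm

theorem isPGroup_sup_zpowers {P : Subgroup G} (hP : IsPGroup 2 P) {t : G}
    (ht : IsPGroup 2 (zpowers t)) (hn : t ∈ normalizer (P : Set G)) :
    IsPGroup 2 ↥(P ⊔ zpowers t) := by
  haveI := Fact.mk Nat.prime_two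
  exact IsPGroup.to_sup_of_normal_left' hP ht (zpowers_le.2 hn)

theorem Setting.centralizer_mul_ne_top (S : Setting X Y) {x y : G} (hx : x ∈ X) (hy : y ∈ Y)
    (hx2 : orderOf x = 2) (hy2 : orderOf y = 2) (hxy : Commute x y) :
    centralizer {x * y} ≠ ⊤ := by
  intro htop
  have hcen : ∀ g : G, Commute g (x * y) := fun g =>
    mem_centralizer_singleton.1 (htop ▸ mem_top g)
  obtain ⟨g, hg, hne⟩ := S.exists_conj_ne hx hx2
  set x' := g * x * g⁻¹ with hx'
  set y' := g * y * g⁻¹ with hy'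
  have hu : x' * y' = x * y := by
    rw [hx', hy', show g * x * g⁻¹ * (g * y * g⁻¹) = g * (x * y) * g⁻¹ by group, (hcen g).eq,
      mul_inv_cancel_right]
  have hx'y : Commute x' y := by
    have h1 := hg.symm.inv_right.mul_right (hcen x')
    simpa using h1
  set P := zpowers x ⊔ zpowers x' ⊔ zpowers y with hP
  have hPp : IsPGroup 2 P := by
    refine isPGroup_sup_zpowers (isPGroup_sup_zpowers (S.pair.two_left x hx)
      (S.pair.two_left x' (S.pair.conj_left g x hx)) ?_) (S.pair.two_right y hy) ?_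
    · refine mem_normalizer_of_commute fun a ha => ?_
      obtain ⟨i, rfl⟩ := mem_zpowers_iff.1 ha
      exact hg.symm.zpow_right i
    · have hle : zpowers x ⊔ zpowers x' ≤ centralizer {y} := sup_le
        (zpowers_le.2 (mem_centralizer_singleton.2 hxy))
        (zpowers_le.2 (mem_centralizer_singleton.2 hx'y))
      exact mem_normalizer_of_commute fun a ha => (mem_centralizer_singleton.1 (hle ha)).symm
  have hxP : x ∈ P := mem_sup_left (mem_sup_left (mem_zpowers x))
  have hx'P : x' ∈ P := mem_sup_left (mem_sup_right (mem_zpowers x'))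
  have hyP : y ∈ P := mem_sup_right (mem_zpowers y)
  have hy'e : y' = x'⁻¹ * (x * y) := by rw [← hu, inv_mul_cancel_left]
  have hy'P : y' ∈ P := hy'e ▸ mul_mem (inv_mem hx'P) (mul_mem hxP hyP)
  have hX := S.pair.mul_left P hPp _ (S.pair.inv_mem (S.pair.conj_left g x hx)) (inv_mem hx'P)
    x hx hxP
  have hY := S.pair.mul_right P hPp y' (S.pair.conj_right g y hy) hy'P _ (S.pair.symm.inv_mem hy)
    (inv_mem hyP)
  have he : x'⁻¹ * x = y' * y⁻¹ := by rw [hy'e]; group
  have h1 := S.pair.disjoint _ hX (he ▸ hY)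
  exact hne (inv_mul_eq_one.1 h1)

theorem Frame.centralizer_ne_top {F E : Subgroup G} (h : Frame X Y F E) (S : Setting X Y) {c : G}
    (hc : c ∈ F ⊔ E) (hc1 : c ≠ 1) : centralizer {c} ≠ ⊤ := by
  obtain ⟨f, hf, e, he, rfl⟩ := h.mem_sup_iff.1 hc
  by_cases hf1 : f = 1
  · subst hf1
    rw [one_mul] at hc1 ⊢
    exact S.noncentral_right e (h.subY e he) (h.symm.orderOf_F he hc1)
  by_cases he1 : e = 1
  · subst he1
    rw [mul_one] at hc1 ⊢
    exact S.noncentral_left f (h.subX f hf) (h.orderOf_F hf hc1)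
  exact S.centralizer_mul_ne_top (h.subX f hf) (h.subY e he) (h.orderOf_F hf hf1)
    (h.symm.orderOf_F he he1) (h.comm f hf e he)

theorem Setting.mem_oC_of (S : Setting X Y) {x y c v : G} (hx : x ∈ X) (hy : y ∈ Y)
    (hc : centralizer {c} ≠ ⊤) (hxc : Commute x c) (hyc : Commute y c) (hvx : v ∈ oC x)
    (hvy : v ∈ oC y) (hvc : Commute v c) : v ∈ oC c :=
  S.inf_le_oc hc hx (mem_centralizer_singleton.2 hxc) hy (mem_centralizer_singleton.2 hyc) hvx hvy
    (mem_centralizer_singleton.2 hvc)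

theorem Frame.mem_gam_of {F E D : Subgroup G} (h : Frame X Y F E) (S : Setting X Y)
    (hD : D ≤ F ⊔ E) {x y v : G} (hx : x ∈ F) (hy : y ∈ E) (hvx : v ∈ oC x) (hvy : v ∈ oC y)
    (hvD : ∀ d ∈ D, Commute v d) : v ∈ gam D :=
  mem_gam.2 fun c hc hc1 => S.mem_oC_of (h.subX x hx) (h.subY y hy)
    (h.centralizer_ne_top S (hD hc) hc1) (h.commute (mem_sup_left hx) (hD hc))
    (h.commute (mem_sup_right hy) (hD hc)) hvx hvy (hvD c hc)

theorem Frame.mem_gam_of_inverted {F E D : Subgroup G} (h : Frame X Y F E) (S : Setting X Y)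
    (hD : D ≤ F ⊔ E) {s t v : G} (hs : s ∈ F) (ht : t ∈ E) (hv : Odd (orderOf v))
    (hsv : s * v * s⁻¹ = v⁻¹) (htv : t * v * t⁻¹ = v⁻¹) (hvD : ∀ d ∈ D, Commute v d) :
    v ∈ gam D :=
  mem_gam.2 fun c hc hc1 => S.mem_oc_of_inverted (h.centralizer_ne_top S (hD hc) hc1)
    (h.subX s hs) (mem_centralizer_singleton.2 (h.commute (mem_sup_left hs) (hD hc)))
    (h.subY t ht) (mem_centralizer_singleton.2 (h.commute (mem_sup_right ht) (hD hc)))
    (mem_centralizer_singleton.2 (hvD c hc)) hv hsv htv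

end CfsgLib.LocalEven.ProductFusion
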