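import Cfsg.Agent.Lib.LocalEven.ProductFusion.Balance

/-!
# The completion depends only on two commuting involutions
-/

set_option autoImplicit false
set_option linter.unusedSectionVars false
set_option linter.style.haveILetI false

namespace CfsgLib.LocalEven.ProductFusion

open Subgroup
open scoped commutatorElement

universe u

variable {G : Type u} [Group G] [Finite G] {X Y : Set G} {F E : Subgroup G}

/-- The value of the functor at `a`, computed from `b`. -/
def theta1 (a b : G) : Subgroup G := ⁅oC a, zpowers b⁆ ⊔ (oC a ⊓ oC b)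

/-- The completion computed from a pair of commuting involutions. -/
def rab (a b : G) : Subgroup G := theta1 a b ⊔ theta1 b a ⊔ ⁅oC (a * b), zpowers a⁆

theorem conj_mem_zpowers_conj {g b x : G} (hx : x ∈ zpowers b) :
    g * x * g⁻¹ ∈ zpowers (g * b * g⁻¹) := by
  obtain ⟨i, rfl⟩ := mem_zpowers_iff.1 hx
  exact ⟨i, by simp [conj_zpow]⟩

theorem conj_mem_theta1 {g a b v : G} (hv : v ∈ theta1 a b) :
    g * v * g⁻¹ ∈ theta1 (g * a * g⁻¹) (g * b * g⁻¹) :=
  conj_mem_sup
    (fun x hx => mem_sup_left (conj_mem_commutator (fun _ hy => conj_mem_oC hy)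
      (fun _ hy => conj_mem_zpowers_conj hy) x hx))
    (fun _ hx => mem_sup_right
      (mem_inf.2 ⟨conj_mem_oC (mem_inf.1 hx).1, conj_mem_oC (mem_inf.1 hx).2⟩)) v hv

theorem conj_mem_rab {g a b v : G} (hv : v ∈ rab a b) :
    g * v * g⁻¹ ∈ rab (g * a * g⁻¹) (g * b * g⁻¹) := by
  refine conj_mem_sup (conj_mem_sup (fun x hx => mem_sup_left (mem_sup_left (conj_mem_theta1 hx)))
    fun x hx => mem_sup_left (mem_sup_right (conj_mem_theta1 hx)))
    (fun x hx => mem_sup_right ?_) v hv
  refine conj_mem_commutator (fun y hy => ?_) (fun _ hy => conj_mem_zpowers_conj hy) x hx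
  rw [show g * a * g⁻¹ * (g * b * g⁻¹) = g * (a * b) * g⁻¹ by group]
  exact conj_mem_oC hy

theorem mem_normalizer_rab {g a b : G} (ha : Commute g a) (hb : Commute g b) :
    g ∈ normalizer (rab a b : Set G) :=
  mem_normalizer_of_conj fun v hv => by
    have := conj_mem_rab (g := g) hv
    rwa [ha.eq, hb.eq, mul_inv_cancel_right, mul_inv_cancel_right] at this

/-- Inversion by both `t` and `s * t` centralising `w`. -/
theorem inverted_of_mul {s t w : G} (hst : Commute w (s * t)) (htw : t * w * t⁻¹ = w⁻¹) :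
    s * w * s⁻¹ = w⁻¹ := by
  have h1 : s * t * w * (s * t)⁻¹ = w := by rw [hst.symm.eq, mul_inv_cancel_right]
  have h2 : s * w⁻¹ * s⁻¹ = w := by
    rw [← htw]
    simpa [mul_assoc] using h1
  have := congrArg (·⁻¹) h2
  simpa [mul_assoc] using this

namespace Frame

theorem inf_oC_le_gam (h : Frame X Y F E) (S : Setting X Y) {x y : G} (hx : x ∈ F) (hy : y ∈ E)
    {M : Subgroup G}
    (hM : ∀ D, Hyp (F ⊔ E) D → x ∈ D → y ∈ D → gam D ≤ M) : oC x ⊓ oC y ≤ M := by
  have hA := h.elementary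
  have hAn : ∀ c ∈ F ⊔ E, F ⊔ E ≤ normalizer (oC c : Set G) := fun c hc b hb =>
    mem_normalizer_oC_of_commute (h.commute hb hc)
  refine le_of_pieces hA ((le_inf (hAn x (mem_sup_left hx)) (hAn y (mem_sup_right hy))).trans
    inf_normalizer_le_normalizer_inf) (odd_of_le inf_le_left (odd_card_oc _))
    fun D hD v hv hvD => ?_
  obtain ⟨hvx, hvy⟩ := mem_inf.1 hv
  set D' := D ⊔ (zpowers x ⊔ zpowers y) with hD'
  have hD'A : D' ≤ F ⊔ E :=
    sup_le hD.1 (sup_le (zpowers_le.2 (mem_sup_left hx)) (zpowers_le.2 (mem_sup_right hy)))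
  refine hM D' (hD.mono le_sup_left hD'A) (mem_sup_right (mem_sup_left (mem_zpowers x)))
    (mem_sup_right (mem_sup_right (mem_zpowers y))) (h.mem_gam_of S hD'A hx hy hvx hvy ?_)
  have h1 : D' ≤ centralizer {v} := sup_le
    (fun d hd => mem_centralizer_singleton.2 (hvD d hd).symm)
    (sup_le (zpowers_le.2 (mem_centralizer_singleton.2 (commute_of_mem_oC hvx).symm))
      (zpowers_le.2 (mem_centralizer_singleton.2 (commute_of_mem_oC hvy).symm)))
  exact fun d hd => (mem_centralizer_singleton.1 (h1 hd)).symm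

theorem inf_oC_le_theta (h : Frame X Y F E) (S : Setting X Y) {x y : G} (hx : x ∈ F)
    (hy : y ∈ E) : oC x ⊓ oC y ≤ theta (F ⊔ E) x :=
  h.inf_oC_le_gam S hx hy fun _ hD hxD _ => gam_le_theta hD hxD

theorem theta_le_of (h : Frame X Y F E) {x : G} (hx1 : x ≠ 1) {M : Subgroup G}
    (hM : ∀ y ∈ E, y ≠ 1 → oC x ⊓ oC y ≤ M) : theta (F ⊔ E) x ≤ M := by
  refine iSup_le fun D v hv => ?_
  obtain ⟨y, hyE, hyD, hy1⟩ := h.symm.exists_mem_hyp (D := D.1) (by rw [sup_comm]; exact D.2.1)
  exact hM y hyE hy1 (mem_inf.2 ⟨mem_gam.1 hv x D.2.2 hx1, mem_gam.1 hv y hyD hy1⟩)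

theorem mem_normalizer_theta (h : Frame X Y F E) (S : Setting X Y) {x g : G} (hx : x ∈ F)
    (hx1 : x ≠ 1) (hgx : Commute g x) (hgE : ∀ e ∈ E, Commute g e) :
    g ∈ normalizer (theta (F ⊔ E) x : Set G) := by
  refine mem_normalizer_of_conj fun v hv => ?_
  have : theta (F ⊔ E) x ≤ (theta (F ⊔ E) x).comap (MulAut.conj g).toMonoidHom :=
    h.theta_le_of hx1 fun y hy _ w hw => h.inf_oC_le_theta S hx hy
      (mem_inf.2 ⟨conj_mem_of_mem_normalizer (mem_normalizer_oC_of_commute hgx) (mem_inf.1 hw).1,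
        conj_mem_of_mem_normalizer (mem_normalizer_oC_of_commute (hgE y hy)) (mem_inf.1 hw).2⟩)
  exact this hv

theorem oC_le_sup (h : Frame X Y F E) (S : Setting X Y) {x : G} (hx : x ∈ F) :
    oC x ≤ theta (F ⊔ E) x ⊔ (oC x ⊓ centralizer (E : Set G)) := by
  haveI := isMulCommutative_of_sq h.sqE
  have hEn : E ≤ normalizer (oC x : Set G) := fun e he =>
    mem_normalizer_oC_of_commute (h.comm x hx e he).symm
  have hcop := coprime_of_two_group (isPGroup_of_sq h.sqE) (odd_card_oc (centralizer {x}))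
  conv_lhs => rw [← Coprime.iSup_centralizer_singleton (not_isCyclic_of_four h.card_E h.sqE) hEn hcop]
  refine iSup₂_le fun y hy => ?_
  obtain ⟨hyE, hy1⟩ := hy
  set P := oC x ⊓ centralizer {y} with hP
  have hEP : E ≤ normalizer (P : Set G) := (le_inf hEn fun e he => Subgroup.le_normalizer
    (mem_centralizer_singleton.2 (commute_of_sq h.sqE he hyE))).trans
    inf_normalizer_le_normalizer_inf
  rw [← split (A := E) (isPGroup_of_sq h.sqE) hEP (odd_of_le inf_le_left (odd_card_oc _))]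
  refine sup_le (commutator_le.2 fun p hp e he => mem_sup_left ?_)
    (le_sup_of_le_right (inf_le_inf_right _ inf_le_left))
  have hP' : ⁅P, zpowers e⁆ ≤ oC x ⊓ oC y := by
    refine commutator_zpowers_le (h.sqE e he) (hEP he) fun v hv hev => ?_
    refine mem_inf.2 ⟨(mem_inf.1 hv).1, ?_⟩
    exact S.mem_oc_of_inverted_right (h.centralizer_ne_top S (mem_sup_right hyE) hy1) (h.subX x hx)
      (mem_centralizer_singleton.2 (h.comm x hx y hyE)) (N := P) inf_le_right
      (inf_le_left.trans (oC_le x)) (odd_of_le inf_le_left (odd_card_oc _))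
      ((le_inf (inf_le_right.trans (le_normalizer_oC x))
        (inf_le_left.trans Subgroup.le_normalizer)).trans inf_normalizer_le_normalizer_inf)
      hv (h.subY e he) (mem_centralizer_singleton.2 (commute_of_sq h.sqE he hyE)) hev
  exact h.inf_oC_le_theta S hx hyE (hP' (commutator_mem_commutator hp (mem_zpowers e)))

theorem theta_eq_theta1 (h : Frame X Y F E) (S : Setting X Y) {x y : G} (hx : x ∈ F) (hx1 : x ≠ 1)
    (hy : y ∈ E) (hy1 : y ≠ 1) : theta (F ⊔ E) x = theta1 x y := by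
  have hA := h.elementary
  have hcomm : ⁅oC x, zpowers y⁆ ≤ theta (F ⊔ E) x :=
    commutator_le_of_decomp (h.oC_le_sup S hx)
      (fun c hc => h.mem_normalizer_theta S hx hx1 (commute_of_mem_oC (mem_inf.1 hc).1)
        fun e he => commute_of_mem_centralizer (mem_inf.1 hc).2 he)
      ((zpowers_le.2 (mem_sup_right hy)).trans (le_normalizer_theta hA x))
      fun c hc k hk => commute_of_mem_centralizer (mem_inf.1 hc).2 (zpowers_le.2 hy hk)
  refine le_antisymm (h.theta_le_of hx1 fun y' hy' hy'1 => ?_)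
    (sup_le hcomm (h.inf_oC_le_theta S hx hy))
  have hyn : zpowers y ≤ normalizer ((oC x ⊓ oC y' : Subgroup G) : Set G) := zpowers_le.2
    (inf_normalizer_le_normalizer_inf (mem_inf.2
      ⟨mem_normalizer_oC_of_commute (h.comm x hx y hy).symm,
      mem_normalizer_oC_of_commute (commute_of_sq h.sqE hy hy')⟩))
  rw [← split (A := zpowers y) (isPGroup_zpowers_of_sq (h.sqE y hy)) hyn
    (odd_of_le inf_le_left (odd_card_oc _))]
  refine sup_le ((commutator_mono inf_le_left le_rfl).trans le_sup_left) fun v hv => ?_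
  obtain ⟨hv', hvy⟩ := mem_inf.1 hv
  exact mem_sup_right (mem_inf.2 ⟨(mem_inf.1 hv').1, S.mem_oC_of (h.subX x hx) (h.subY y' hy')
      (h.centralizer_ne_top S (mem_sup_right hy) hy1) (h.comm x hx y hy)
      (commute_of_sq h.sqE hy' hy) (mem_inf.1 hv').1 (mem_inf.1 hv').2
      (commute_of_mem_centralizer hvy (mem_zpowers y))⟩)

end Frame

theorem eq_of_isCyclic {B : Subgroup G} (hB : IsCyclic B) {x y : G} (hx : x ∈ B) (hy : y ∈ B)
    (hsq : ∀ b ∈ B, b * b = 1) (hx1 : x ≠ 1) (hy1 : y ≠ 1) : x = y := by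
  obtain ⟨⟨g, hg⟩, hgen⟩ := hB.exists_generator
  have key : ∀ z ∈ B, z ≠ 1 → z = g := fun z hz hz1 => by
    obtain ⟨i, hi⟩ := mem_zpowers_iff.1 (hgen ⟨z, hz⟩)
    have h1 : z ∈ zpowers g :=
      mem_zpowers_iff.2 ⟨i, by simpa using congrArg (fun w : B => (w : G)) hi⟩
    exact (eq_one_or_of_mem_zpowers (hsq g hg) h1).resolve_left hz1
  rw [key x hx hx1, key y hy hy1]

namespace Frame

theorem closureR_le (h : Frame X Y F E) (S : Setting X Y) {B M : Subgroup G} (hB : B ≤ F ⊔ E)
    (hnc : ¬ IsCyclic B) (hM : ∀ b ∈ B, b ≠ 1 → theta (F ⊔ E) b ≤ M) :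
    closureR (F ⊔ E) ≤ M := by
  haveI := Components.Signalizer.isMulCommutative_of_le h.elementary hB
  obtain ⟨hodd, hn, heq⟩ := h.closureR_spec S
  conv_lhs => rw [← Coprime.iSup_centralizer_singleton hnc (hB.trans hn)
    (coprime_of_two_group (h.isPGroup.to_le hB) hodd)]
  refine iSup₂_le fun b hb => ?_
  rw [heq b (hB hb.1) hb.2]
  exact hM b hb.1 hb.2

theorem theta_le_closureR {A : Subgroup G} {a : G} (ha : a ∈ A) (ha1 : a ≠ 1) :
    theta A a ≤ closureR A :=
  le_iSup (fun a : {a : G // a ∈ A ∧ a ≠ 1} => theta A (a : G)) ⟨a, ha, ha1⟩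

theorem closureR_le_left (h : Frame X Y F E) (S : Setting X Y) {M : Subgroup G}
    (hM : ∀ x ∈ F, x ≠ 1 → theta (F ⊔ E) x ≤ M) : closureR (F ⊔ E) ≤ M :=
  h.closureR_le S le_sup_left (not_isCyclic_of_four h.card_F h.sqF) hM

/-- An element fixing `y` and `F` pointwise fixes the completion. -/
theorem mem_normalizer_closureR (h : Frame X Y F E) (S : Setting X Y) {y g : G} (hy : y ∈ E)
    (hy1 : y ≠ 1) (hgF : ∀ f ∈ F, Commute g f) (hgy : Commute g y) :
    g ∈ normalizer (closureR (F ⊔ E) : Set G) := by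
  refine mem_normalizer_of_conj fun v hv => ?_
  have : closureR (F ⊔ E) ≤ (closureR (F ⊔ E)).comap (MulAut.conj g).toMonoidHom :=
    h.closureR_le_left S fun x hx hx1 w hw => by
      have he := h.theta_eq_theta1 S hx hx1 hy hy1
      rw [he] at hw
      have h1 := conj_mem_theta1 (g := g) hw
      rw [(hgF x hx).eq, hgy.eq, mul_inv_cancel_right, mul_inv_cancel_right, ← he] at h1
      exact theta_le_closureR (mem_sup_left hx) hx1 h1
  exact this hv

/-- Pieces of `C(u)`, `u = x y`, modulo the completion. -/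
theorem oC_mul_le (h : Frame X Y F E) (S : Setting X Y) {x y : G} (hx : x ∈ F) (hx1 : x ≠ 1)
    (hy : y ∈ E) (hy1 : y ≠ 1) :
    oC (x * y) ≤ (oC (x * y) ⊓ closureR (F ⊔ E)) ⊔ (oC (x * y) ⊓ centralizer {x}) ∧
      oC (x * y) ⊓ centralizer {x} ≤ normalizer (closureR (F ⊔ E) : Set G) := by
  set A := F ⊔ E with hAdef
  set R := closureR A with hR
  have hA := h.elementary
  have hu : x * y ∈ A := mul_mem (mem_sup_left hx) (mem_sup_right hy)
  have hu1 : x * y ≠ 1 := fun e => hx1 (S.pair.disjoint x (h.subX x hx) (h.subY x (by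
    rw [eq_inv_of_mul_eq_one_left e]; exact inv_mem hy)))
  have hAW : A ≤ normalizer (oC (x * y) : Set G) := fun b hb =>
    mem_normalizer_oC_of_commute (h.commute hb hu)
  have hodd : Odd (Nat.card (oC (x * y))) := odd_card_oc _
  refine ⟨?_, ?_⟩
  · refine le_of_pieces hA hAW hodd fun D hD v hv hvD => ?_
    by_cases hxD : x ∈ D
    · exact mem_sup_right (mem_inf.2 ⟨hv, mem_centralizer_singleton.2 (hvD x hxD)⟩)
    refine mem_of_piece hA hD hAW hodd (mem_sup_left hx) hxD
      (fun w hw hwA => mem_sup_right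
        (mem_inf.2 ⟨hw, mem_centralizer_singleton.2 (hwA x (mem_sup_left hx))⟩))
      (fun w hw hwD hxw => ?_) hv hvD
    by_cases huD : x * y ∈ D
    · have h1 : Commute w (y * x) := by
        rw [(h.comm x hx y hy).symm.eq]; exact hwD _ huD
      exact mem_sup_left (mem_inf.2 ⟨hw, theta_le_closureR hu hu1 (gam_le_theta hD huD
        (h.mem_gam_of_inverted S hD.1 hx hy (odd_orderOf hodd hw) hxw (inverted_of_mul h1 hxw)
          hwD))⟩)
    · exact mem_sup_right (mem_inf.2 ⟨hw, mem_centralizer_singleton.2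
        (hD.commute_all hu huD hwD (commute_of_mem_oC hw) x (mem_sup_left hx))⟩)
  · have hxA : x ∈ A := mem_sup_left hx
    refine le_of_pieces hA (Components.Signalizer.le_normalizer_inf_centralizer_singleton hA hAW hxA)
      (odd_of_le inf_le_left hodd) fun D hD v hv hvD => ?_
    obtain ⟨hvu, hvx⟩ := mem_inf.1 hv
    have hvy : Commute v y := by
      have h1 := (mem_centralizer_singleton.1 hvx).inv_right.mul_right (commute_of_mem_oC hvu)
      rwa [inv_mul_cancel_left] at h1
    set D' := D ⊔ (zpowers x ⊔ zpowers y) with hD'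
    have hD'A : D' ≤ A :=
      sup_le hD.1 (sup_le (zpowers_le.2 hxA) (zpowers_le.2 (mem_sup_right hy)))
    have hD'h : Hyp A D' := hD.mono le_sup_left hD'A
    have hxD' : x ∈ D' := mem_sup_right (mem_sup_left (mem_zpowers x))
    have hvD' : ∀ d ∈ D', Commute v d := by
      have h1 : D' ≤ centralizer {v} := sup_le
        (fun d hd => mem_centralizer_singleton.2 (hvD d hd).symm)
        (sup_le (zpowers_le.2 (mem_centralizer_singleton.2 (mem_centralizer_singleton.1 hvx).symm))
          (zpowers_le.2 (mem_centralizer_singleton.2 hvy.symm)))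
      exact fun d hd => (mem_centralizer_singleton.1 (h1 hd)).symm
    by_cases hED : E ≤ D'
    · have := h.symm.mem_normalizer_closureR S.symm hx hx1 (fun e he => hvD' e (hED he))
        (mem_centralizer_singleton.1 hvx)
      rwa [sup_comm] at this
    by_cases hFD : F ≤ D'
    · exact h.mem_normalizer_closureR S hy hy1 (fun f hf => hvD' f (hFD hf)) hvy
    obtain ⟨t, htE, htD⟩ := SetLike.not_le_iff_exists.1 hED
    obtain ⟨s, hsF, hsD⟩ := SetLike.not_le_iff_exists.1 hFD
    refine mem_of_piece hA hD'h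
      (Components.Signalizer.le_normalizer_inf_centralizer_singleton hA hAW hxA)
      (odd_of_le inf_le_left hodd) (mem_sup_right htE) htD
      (fun w _ hwA => h.mem_normalizer_closureR S hy hy1 (fun f hf => hwA f (mem_sup_left hf))
        (hwA y (mem_sup_right hy)))
      (fun w hw hwD htw => ?_) hv hvD'
    refine Subgroup.le_normalizer (theta_le_closureR hxA hx1 (gam_le_theta hD'h hxD' ?_))
    exact h.mem_gam_of_inverted S hD'A hsF htE (odd_orderOf hodd (mem_inf.1 hw).1)
      (inverted_of_mul (hwD _ (hD'h.mul_mem_of_not_mem (mem_sup_left hsF) (mem_sup_right htE)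
        hsD htD)) htw) htw hwD

theorem commutator_oC_mul_le (h : Frame X Y F E) (S : Setting X Y) {x y : G} (hx : x ∈ F)
    (hx1 : x ≠ 1) (hy : y ∈ E) (hy1 : y ≠ 1) :
    ⁅oC (x * y), zpowers x⁆ ≤ closureR (F ⊔ E) := by
  obtain ⟨h1, h2⟩ := h.oC_mul_le S hx hx1 hy hy1
  refine (commutator_le_of_decomp h1 ?_ ?_ fun c hc k hk => ?_).trans inf_le_right
  · exact (le_inf (inf_le_left.trans Subgroup.le_normalizer) h2).trans
      inf_normalizer_le_normalizer_inf
  · exact zpowers_le.2 (inf_normalizer_le_normalizer_inf (mem_inf.2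
      ⟨mem_normalizer_oC_of_commute ((Commute.refl x).mul_right (h.comm x hx y hy)),
      (h.closureR_spec S).2.1 (mem_sup_left hx)⟩))
  · obtain ⟨i, rfl⟩ := mem_zpowers_iff.1 hk
    exact (mem_centralizer_singleton.1 (mem_inf.1 hc).2).zpow_right i

theorem closureR_eq_rab (h : Frame X Y F E) (S : Setting X Y) {x y : G} (hx : x ∈ F)
    (hx1 : x ≠ 1) (hy : y ∈ E) (hy1 : y ≠ 1) : closureR (F ⊔ E) = rab x y := by
  have hxA : x ∈ F ⊔ E := mem_sup_left hx
  have hyA : y ∈ F ⊔ E := mem_sup_right hy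
  have hxy : x ≠ y := fun e => hx1 (S.pair.disjoint x (h.subX x hx) (e ▸ h.subY y hy))
  have htx := h.theta_eq_theta1 S hx hx1 hy hy1
  have hty : theta (F ⊔ E) y = theta1 y x := by
    rw [sup_comm]; exact h.symm.theta_eq_theta1 S.symm hy hy1 hx hx1
  have hBA : zpowers x ⊔ zpowers y ≤ F ⊔ E := sup_le (zpowers_le.2 hxA) (zpowers_le.2 hyA)
  refine le_antisymm (h.closureR_le S hBA (fun hc => hxy (eq_of_isCyclic hc
    (mem_sup_left (mem_zpowers x)) (mem_sup_right (mem_zpowers y))
    (fun b hb => h.sq_mem (hBA hb)) hx1 hy1)) fun b hb hb1 => ?_)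
    (sup_le (sup_le (htx ▸ theta_le_closureR hxA hx1) (hty ▸ theta_le_closureR hyA hy1))
      (h.commutator_oC_mul_le S hx hx1 hy hy1))
  obtain ⟨p, hp, q, hq, rfl⟩ := (Coprime.mem_sup_of_le_normalizer (fun c hc =>
    mem_normalizer_of_commute fun a ha =>
      h.commute (hBA (mem_sup_right hc)) (hBA (mem_sup_left ha)))).1 hb
  rcases eq_one_or_of_mem_zpowers (h.sqF x hx) hp with rfl | rfl <;>
    rcases eq_one_or_of_mem_zpowers (h.sqE y hy) hq with rfl | rfl
  · exact absurd (one_mul 1) hb1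
  · rw [one_mul, hty]; exact le_sup_of_le_left le_sup_right
  · rw [mul_one, htx]; exact le_sup_of_le_left le_sup_left
  · have huA := hBA hb
    have hpn : zpowers p ≤ normalizer (theta (F ⊔ E) (p * q) : Set G) :=
      zpowers_le.2 (le_normalizer_theta h.elementary _ hxA)
    rw [← split (A := zpowers p) (isPGroup_zpowers_of_sq (h.sqF p hx)) hpn (h.theta_odd hb1)]
    refine sup_le ((commutator_mono ((theta_le_oC hb1)) le_rfl).trans le_sup_right) ?_
    refine le_trans (fun v hv => h.balance S huA hb1 hxA (mem_inf.2 ⟨(mem_inf.1 hv).1,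
      mem_centralizer_singleton.2
        (commute_of_mem_centralizer (mem_inf.1 hv).2 (mem_zpowers p))⟩)) ?_
    rw [htx]; exact le_sup_of_le_left le_sup_left

/-- The completion is recovered from any two nontrivial commuting members. -/
theorem rab_eq (h : Frame X Y F E) (S : Setting X Y) {x y x' y' : G} (hx : x ∈ F) (hx1 : x ≠ 1)
    (hy : y ∈ E) (hy1 : y ≠ 1) (hx' : x' ∈ F) (hx'1 : x' ≠ 1) (hy' : y' ∈ E) (hy'1 : y' ≠ 1) :
    rab x y = rab x' y' := by
  rw [← h.closureR_eq_rab S hx hx1 hy hy1, h.closureR_eq_rab S hx' hx'1 hy' hy'1]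

end Frame

end CfsgLib.LocalEven.ProductFusion
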