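import Cfsg.Agent.Lib.LocalEven.ProductFusion.Intrinsic

/-!
# The two classes commute modulo the odd core
-/

set_option autoImplicit false
set_option linter.unusedSectionVars false
set_option linter.style.haveILetI false

namespace CfsgLib.LocalEven.ProductFusion

open Subgroup
open scoped commutatorElement

universe u

variable {G : Type u} [Group G] [Finite G] {X Y : Set G}

/-- Two commuting involutions generate a four group. -/
theorem four_of_two {s t : G} (hs : orderOf s = 2) (ht : orderOf t = 2) (hst : Commute s t)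
    (hne : s ≠ t) :
    Nat.card ↥(zpowers s ⊔ zpowers t) = 4 ∧ ∀ v ∈ zpowers s ⊔ zpowers t, v * v = 1 := by
  have hss := Involution.Dihedral.mul_self hs
  have htt := Involution.Dihedral.mul_self ht
  have hn : zpowers t ≤ normalizer (zpowers s : Set G) :=
    zpowers_le.2 (mem_normalizer_of_commute fun a ha => by
      obtain ⟨i, rfl⟩ := mem_zpowers_iff.1 ha
      exact hst.symm.zpow_right i)
  refine ⟨?_, fun v hv => ?_⟩
  · have h1 := Components.Signalizer.card_sup_dvd_mul hn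
    rw [Nat.card_zpowers, Nat.card_zpowers, hs, ht] at h1
    let f : Fin 3 → ↥(zpowers s ⊔ zpowers t) :=
      ![1, ⟨s, mem_sup_left (mem_zpowers s)⟩, ⟨t, mem_sup_right (mem_zpowers t)⟩]
    have hs1 := Involution.Dihedral.ne_one hs
    have ht1 := Involution.Dihedral.ne_one ht
    have hf : Function.Injective f := by
      intro i j hij
      have := congrArg (fun z : ↥(zpowers s ⊔ zpowers t) => (z : G)) hij
      fin_cases i <;> fin_cases j <;> first
        | rfl
        | exact absurd this hs1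
        | exact absurd this.symm hs1
        | exact absurd this ht1
        | exact absurd this.symm ht1
        | exact absurd this hne
        | exact absurd this.symm hne
    have h2 := Nat.card_le_card_of_injective f hf
    rw [Nat.card_fin] at h2
    have h3 := Nat.le_of_dvd (by norm_num) h1
    interval_cases hn : Nat.card ↥(zpowers s ⊔ zpowers t) <;> omega
  · obtain ⟨a, ha, b, hb, rfl⟩ := (Coprime.mem_sup_of_le_normalizer hn).1 hv
    rcases eq_one_or_of_mem_zpowers hss ha with rfl | rfl <;>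
      rcases eq_one_or_of_mem_zpowers htt hb with rfl | rfl
    · simp
    · simpa using htt
    · simpa using hss
    · rw [mul_assoc, ← mul_assoc b, hst.symm.eq, mul_assoc a, htt, mul_one, hss]

namespace Setting

theorem exists_four (S : Setting X Y) (T : Sylow 2 G) {a : G} (ha : a ∈ X) (ha2 : orderOf a = 2)
    (haT : a ∈ T) :
    ∃ F : Subgroup G, Nat.card F = 4 ∧ (∀ f ∈ F, f * f = 1) ∧ (∀ f ∈ F, f ∈ X) ∧
      F ≤ (T : Subgroup G) ∧ a ∈ F := by
  haveI := Fact.mk Nat.prime_two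
  let P : Subgroup G :=
    { carrier := {g | g ∈ X ∧ g ∈ T}
      one_mem' := ⟨S.pair.one_left, one_mem _⟩
      mul_mem' := fun {p q} hp hq =>
        ⟨S.pair.mul_left T T.2 p hp.1 hp.2 q hq.1 hq.2, mul_mem hp.2 hq.2⟩
      inv_mem' := fun {p} hp => ⟨S.pair.inv_mem hp.1, Subgroup.inv_mem _ hp.2⟩ }
  have hPT : P ≤ (T : Subgroup G) := fun g hg => hg.2
  have hPp : IsPGroup 2 P := T.2.to_le hPT
  obtain ⟨g, hga, hgne⟩ := S.exists_conj_ne ha ha2
  obtain ⟨c, hc1, hc2⟩ := Involution.Basic.exists_conj_pair_mem T ha2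
    ((Involution.Dihedral.orderOf_conj g a).trans ha2) hga
  set s₁ := c * a * c⁻¹ with hs₁
  set s₂ := c * (g * a * g⁻¹) * c⁻¹ with hs₂
  have hs₁P : s₁ ∈ P := ⟨S.pair.conj_left c a ha, hc1⟩
  have hs₂P : s₂ ∈ P := ⟨S.pair.conj_left c _ (S.pair.conj_left g a ha), hc2⟩
  have hs₁2 : orderOf s₁ = 2 := (Involution.Dihedral.orderOf_conj c a).trans ha2
  have hs₂2 : orderOf s₂ = 2 :=
    (Involution.Dihedral.orderOf_conj c _).trans ((Involution.Dihedral.orderOf_conj g a).trans ha2)
  have hsne : s₁ ≠ s₂ := fun e => hgne (mul_left_cancel (mul_right_cancel e)).symm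
  haveI : Nontrivial P := nontrivial_iff_exists_ne 1 |>.2
    ⟨⟨s₁, hs₁P⟩, fun e => Involution.Dihedral.ne_one hs₁2 (congrArg Subtype.val e)⟩
  haveI := hPp.center_nontrivial
  have heven : Even (Nat.card (center P)) := by
    obtain ⟨n, hn⟩ := (hPp.to_subgroup (center P)).exists_card_eq
    rcases n with _ | n
    · rw [pow_zero] at hn
      exact absurd hn Finite.one_lt_card.ne'
    · rw [hn, pow_succ]
      exact even_iff_two_dvd.2 (dvd_mul_left 2 _)
  obtain ⟨z, hzc, hz2⟩ := Involution.Basic.exists_involution_of_even _ heven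
  rw [← Subgroup.orderOf_coe] at hz2
  have hzcomm : ∀ p ∈ P, Commute (z : G) p := fun p hp =>
    ((show Commute z ⟨p, hp⟩ from (Subgroup.mem_center_iff.1 hzc ⟨p, hp⟩).symm).map P.subtype)
  obtain ⟨w, hwP, hw2, hwne, haw⟩ :
      ∃ w ∈ P, orderOf w = 2 ∧ (z : G) ≠ w ∧ a ∈ zpowers (z : G) ⊔ zpowers w := by
    by_cases haz : (z : G) = a
    · rcases eq_or_ne (z : G) s₁ with h1 | h1
      · exact ⟨s₂, hs₂P, hs₂2, h1 ▸ hsne, haz ▸ mem_sup_left (mem_zpowers _)⟩
      · exact ⟨s₁, hs₁P, hs₁2, h1, haz ▸ mem_sup_left (mem_zpowers _)⟩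
    · exact ⟨a, ⟨ha, haT⟩, ha2, haz, mem_sup_right (mem_zpowers a)⟩
  obtain ⟨hcard, hsq⟩ := four_of_two hz2 hw2 (hzcomm w hwP) hwne
  have hle : zpowers (z : G) ⊔ zpowers w ≤ P := sup_le (zpowers_le.2 z.2) (zpowers_le.2 hwP)
  exact ⟨_, hcard, hsq, fun f hf => (hle hf).1, hle.trans hPT, haw⟩

theorem exists_frame (S : Setting X Y) {a b : G} (ha : a ∈ X) (hb : b ∈ Y) (ha2 : orderOf a = 2)
    (hb2 : orderOf b = 2) (hab : Commute a b) : ∃ F E, Frame X Y F E ∧ a ∈ F ∧ b ∈ E := by
  haveI := Fact.mk Nat.prime_two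
  obtain ⟨T, hT⟩ := (Involution.Basic.isPGroup_of_commute ha2 hb2 hab).exists_le_sylow
  obtain ⟨F, hF4, hFsq, hFX, hFT, haF⟩ :=
    S.exists_four T ha ha2 (hT (mem_sup_left (mem_zpowers a)))
  obtain ⟨E, hE4, hEsq, hEY, hET, hbE⟩ :=
    S.symm.exists_four T hb hb2 (hT (mem_sup_right (mem_zpowers b)))
  exact ⟨F, E, ⟨hF4, hE4, hFX, hEY, hFsq, hEsq, fun f hf e he =>
    S.pair.comm T T.2 f (hFX f hf) (hFT hf) e (hEY e he) (hET he)⟩, haF, hbE⟩

theorem exists_frame_extend (S : Setting X Y) {F E : Subgroup G} (h : Frame X Y F E) {t : G}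
    (ht : t ∈ Y) (ht2 : orderOf t = 2) (htF : ∀ f ∈ F, Commute f t) :
    ∃ E', Frame X Y F E' ∧ t ∈ E' := by
  haveI := Fact.mk Nat.prime_two
  obtain ⟨T, hT⟩ := (isPGroup_sup_zpowers (isPGroup_of_sq h.sqF) (S.pair.two_right t ht)
    (mem_normalizer_of_commute fun f hf => (htF f hf).symm)).exists_le_sylow
  obtain ⟨E', hE4, hEsq, hEY, hET, htE⟩ :=
    S.symm.exists_four T ht ht2 (hT (mem_sup_right (mem_zpowers t)))
  exact ⟨E', ⟨h.card_F, hE4, h.subX, hEY, h.sqF, hEsq, fun f hf e he =>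
    S.pair.comm T T.2 f (h.subX f hf) (hT (mem_sup_left hf)) e (hEY e he) (hET he)⟩, htE⟩

theorem oC_le_normalizer_rab (S : Setting X Y) {c d : G} (hc : c ∈ X) (hd : d ∈ Y)
    (hc2 : orderOf c = 2) (hd2 : orderOf d = 2) (hcd : Commute c d) :
    oC c ≤ normalizer (rab c d : Set G) := by
  obtain ⟨F, E, h, hcF, hdE⟩ := S.exists_frame hc hd hc2 hd2 hcd
  haveI := isMulCommutative_of_sq h.sqE
  conv_lhs => rw [← Coprime.iSup_centralizer_singleton (not_isCyclic_of_four h.card_E h.sqE)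
    (fun e he => mem_normalizer_oC_of_commute (h.comm c hcF e he).symm)
    (coprime_of_two_group (isPGroup_of_sq h.sqE) (odd_card_oc (centralizer {c})))]
  refine iSup₂_le fun y hy p hp => ?_
  rw [h.rab_eq S hcF (Involution.Dihedral.ne_one hc2) hdE (Involution.Dihedral.ne_one hd2) hcF
    (Involution.Dihedral.ne_one hc2) hy.1 hy.2]
  exact mem_normalizer_rab (commute_of_mem_oC (mem_inf.1 hp).1)
    (mem_centralizer_singleton.1 (mem_inf.1 hp).2)

/-- Completions sharing their element of `X` normalise each other. -/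
theorem rab_le_normalizer_rab (S : Setting X Y) {a b b' : G} (ha : a ∈ X) (ha2 : orderOf a = 2)
    (hb : b ∈ Y) (hb2 : orderOf b = 2) (hab : Commute a b) (hb' : b' ∈ Y) (hb'2 : orderOf b' = 2)
    (hab' : Commute a b') : rab a b ≤ normalizer (rab a b' : Set G) := by
  obtain ⟨F, E, h, haF, hbE⟩ := S.exists_frame ha hb ha2 hb2 hab
  have ha1 := Involution.Dihedral.ne_one ha2
  have hC : centralizer {a} ≠ ⊤ := S.noncentral_left a ha ha2
  -- an element of the coset `b' O(C(a))` fixed by `F`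
  have hFn : F ≤ normalizer (oC a : Set G) := fun f hf =>
    mem_normalizer_oC_of_commute (commute_of_sq h.sqF hf haF)
  obtain ⟨n, hn, hnF⟩ := Coprime.exists_mul_mem_centralizer hFn
    (coprime_of_two_group (isPGroup_of_sq h.sqF) (odd_card_oc (centralizer {a})))
    (.inl (isSolvable_of_two_group (isPGroup_of_sq h.sqF))) (k := b') fun f hf =>
      S.locl _ hC f (h.subX f hf) (mem_centralizer_singleton.2 (commute_of_sq h.sqF hf haF)) b' hb'
        (mem_centralizer_singleton.2 hab'.symm)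
  set k := n * b' with hk
  have hbb := Involution.Dihedral.mul_self hb'2
  have hb'n : b' ∈ normalizer (oC a : Set G) := mem_normalizer_oC_of_commute hab'.symm
  have hk2 : k * k ∈ oC a := by
    rw [hk, show n * b' * (n * b') = n * (b' * n * b'⁻¹) * (b' * b') by group, hbb, mul_one]
    exact mul_mem hn (conj_mem_of_mem_normalizer hb'n hn)
  obtain ⟨i, hi⟩ := odd_orderOf (odd_card_oc _) hk2
  set t := k ^ (2 * i + 1) with htdef
  have htt : t * t = 1 := by
    rw [htdef, ← (Commute.refl k).mul_pow, ← hi, pow_orderOf_eq_one]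
  have htO : t * b' ∈ oC a := by
    have hkb : k * b' = n := by rw [hk, mul_assoc, hbb, mul_one]
    rw [htdef, pow_succ, pow_mul, pow_two, mul_assoc, hkb]
    exact mul_mem (pow_mem hk2 i) hn
  have ht2 : orderOf t = 2 := by
    refine orderOf_two_of_sq htt fun e => ?_
    rw [e, one_mul] at htO
    have := odd_orderOf (odd_card_oc _) htO
    rw [hb'2] at this
    exact absurd this (by decide)
  obtain ⟨o, ho, hoe⟩ := Involution.Dihedral.exists_conj_of_odd ht2 hb'2
    (odd_orderOf (odd_card_oc _) htO)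
  have hoO : o ∈ oC a := zpowers_le.2 htO ho
  have htY : t ∈ Y := by
    have := S.pair.symm.conj_left' o hb'
    rwa [← hoe, show o⁻¹ * (o * t * o⁻¹) * o = t by group] at this
  have hta : Commute a t := by
    have h1 : Commute (t * b') a := commute_of_mem_oC htO
    have h2 := h1.mul_left hab'.symm
    rw [mul_assoc, hbb, mul_one] at h2
    exact h2.symm
  have htF : ∀ f ∈ F, Commute f t := fun f hf =>
    ((commute_of_mem_centralizer hnF hf).pow_left _).symm
  have heq : rab a t = rab a b' := by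
    have hon := S.oC_le_normalizer_rab ha htY ha2 ht2 hta hoO
    have hoa := commute_of_mem_oC hoO
    refine le_antisymm (fun v hv => ?_) (fun v hv => ?_)
    · have h1 := conj_mem_of_mem_normalizer (inv_mem hon) hv
      have h2 := conj_mem_rab (g := o) h1
      rwa [hoa.eq, mul_inv_cancel_right, hoe, show o * (o⁻¹ * v * o⁻¹⁻¹) * o⁻¹ = v by group] at h2
    · have h1 := conj_mem_rab (g := o⁻¹) hv
      rw [hoa.inv_left.eq, mul_inv_cancel_right, ← hoe,
        show o⁻¹ * (o * t * o⁻¹) * o⁻¹⁻¹ = t by group] at h1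
      have h2 := conj_mem_of_mem_normalizer hon h1
      rwa [show o * (o⁻¹ * v * o⁻¹⁻¹) * o⁻¹ = v by group] at h2
  obtain ⟨E', h', htE'⟩ := S.exists_frame_extend h htY ht2 htF
  rw [← heq, ← h.closureR_eq_rab S haF ha1 hbE (Involution.Dihedral.ne_one hb2)]
  refine h.closureR_le_left S fun c hc hc1 => (theta_le_oC hc1).trans ?_
  rw [h'.rab_eq S haF ha1 htE' (Involution.Dihedral.ne_one ht2) hc hc1 htE'
    (Involution.Dihedral.ne_one ht2)]
  exact S.oC_le_normalizer_rab (h.subX c hc) htY (h.orderOf_F hc hc1) ht2 (htF c hc)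

theorem rab_odd (S : Setting X Y) {a b : G} (ha : a ∈ X) (hb : b ∈ Y) (ha2 : orderOf a = 2)
    (hb2 : orderOf b = 2) (hab : Commute a b) : Odd (Nat.card (rab a b)) := by
  obtain ⟨F, E, h, haF, hbE⟩ := S.exists_frame ha hb ha2 hb2 hab
  rw [← h.closureR_eq_rab S haF (Involution.Dihedral.ne_one ha2) hbE
    (Involution.Dihedral.ne_one hb2)]
  exact (h.closureR_spec S).1

/-- The signalizer attached to an involution of `X`. -/
theorem exists_signalizer (S : Setting X Y) {a : G} (ha : a ∈ X) (ha2 : orderOf a = 2) :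
    ∃ P : Subgroup G, Odd (Nat.card P) ∧
      (∀ b ∈ Y, orderOf b = 2 → Commute a b → b ∈ normalizer (P : Set G)) ∧
      ∀ b ∈ Y, orderOf b = 2 → Commute a b → ⁅oC (a * b), zpowers a⁆ ≤ P := by
  set K := ⨆ b : {b : G // b ∈ Y ∧ orderOf b = 2 ∧ Commute a b}, rab a (b : G) with hK
  have hle : ∀ b : {b : G // b ∈ Y ∧ orderOf b = 2 ∧ Commute a b}, rab a (b : G) ≤ K :=
    fun b => le_iSup (fun b : {b : G // b ∈ Y ∧ orderOf b = 2 ∧ Commute a b} => rab a (b : G)) b
  refine ⟨K, odd_of_le (iSup_le fun b => le_oc (hle b) (iSup_le fun b' => ?_)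
    (S.rab_odd ha b.2.1 ha2 b.2.2.1 b.2.2.2)) (odd_card_oc K), fun b hb hb2 hab => ?_,
    fun b hb hb2 hab => le_sup_right.trans (hle ⟨b, hb, hb2, hab⟩)⟩
  · exact S.rab_le_normalizer_rab ha ha2 b'.2.1 b'.2.2.1 b'.2.2.2 b.2.1 b.2.2.1 b.2.2.2
  · refine mem_normalizer_of_conj (conj_mem_iSup fun b' v hv => ?_)
    have h1 := conj_mem_rab (g := b) hv
    rw [hab.symm.eq, mul_inv_cancel_right] at h1
    refine hle ⟨b * b' * b⁻¹, S.pair.conj_right b _ b'.2.1,
      (Involution.Dihedral.orderOf_conj b _).trans b'.2.2.1, ?_⟩ h1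
    have h2 := b'.2.2.2.map (MulAut.conj b).toMonoidHom
    simpa [hab.symm.eq] using h2

/-- Every involution of `Y` normalises the signalizer of `a`. -/
theorem normalizes (S : Setting X Y) {a b : G} (ha : a ∈ X) (hb : b ∈ Y) (ha2 : orderOf a = 2)
    (hb2 : orderOf b = 2) {P : Subgroup G}
    (hPn : ∀ y ∈ Y, orderOf y = 2 → Commute a y → y ∈ normalizer (P : Set G))
    (hPc : ∀ y ∈ Y, orderOf y = 2 → Commute a y → ⁅oC (a * y), zpowers a⁆ ≤ P) :
    b ∈ normalizer (P : Set G) ∧ a * b * (a * b) ∈ P := by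
  haveI := Fact.mk Nat.prime_two
  have haa := Involution.Dihedral.mul_self ha2
  have hbb := Involution.Dihedral.mul_self hb2
  set r := a * b with hr
  have har : a * r * a⁻¹ = r⁻¹ := Involution.Dihedral.conj_mul_left ha2 hb2
  have hrb : b * r * b⁻¹ = r⁻¹ := by
    rw [hr, mul_inv_rev, Involution.Dihedral.inv_eq ha2, Involution.Dihedral.inv_eq hb2,
      mul_assoc, mul_assoc, hbb, mul_one]
  obtain ⟨m, hm, hmo⟩ : ∃ m, Odd m ∧ ∃ k, orderOf r = 2 ^ k * m := by
    obtain ⟨k, m, hm, he⟩ :=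
      Nat.exists_eq_pow_mul_and_not_dvd (orderOf_pos r).ne' 2 (by norm_num)
    exact ⟨m, Nat.odd_iff.2 (Nat.two_dvd_ne_zero.1 hm), k, he⟩
  obtain ⟨k, hk⟩ := hmo
  obtain ⟨j, rfl⟩ := hm
  set b₀ := b * r ^ (2 * j) with hb₀
  have hab₀ : a * r ^ (2 * j + 1) = b₀ := by
    rw [pow_succ', ← mul_assoc, hb₀, hr, ← mul_assoc, haa, one_mul]
  have hb₀c : b₀ = (r ^ j)⁻¹ * b * r ^ j := by
    have h1 : b * r ^ j = (r ^ j)⁻¹ * b := by
      rw [← Involution.Dihedral.conj_pow hrb, inv_mul_cancel_right]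
    rw [hb₀, two_mul, pow_add, ← mul_assoc, h1]
  have hb₀Y : b₀ ∈ Y := hb₀c ▸ S.pair.symm.conj_left' _ hb
  have hb₀2 : orderOf b₀ = 2 := by
    rw [hb₀c]
    simpa using (Involution.Dihedral.orderOf_conj (r ^ j)⁻¹ b).trans hb2
  set q := r ^ (2 * j + 1) with hq
  by_cases hq1 : q = 1
  · exfalso
    rw [hq1, mul_one] at hab₀
    exact Involution.Dihedral.ne_one ha2 (S.pair.disjoint a ha (hab₀ ▸ hb₀Y))
  have haq : a * q * a⁻¹ = q⁻¹ := Involution.Dihedral.conj_pow har _
  have hqp : IsPGroup 2 (zpowers q) := by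
    obtain ⟨l, -, hl⟩ := (Nat.dvd_prime_pow Nat.prime_two).1 (orderOf_dvd_iff_pow_eq_one.2
      (show q ^ (2 ^ k) = 1 by rw [hq, ← pow_mul, mul_comm, ← hk, pow_orderOf_eq_one]))
    exact IsPGroup.of_card (n := l) (by rw [Nat.card_zpowers, hl])
  have hP := isPGroup_sup_zpowers hqp (S.pair.two_left a ha) (mem_normalizer_of_conj fun v hv => by
    obtain ⟨i, rfl⟩ := mem_zpowers_iff.1 hv
    rw [Involution.Dihedral.conj_zpow haq]
    exact zpow_mem (mem_zpowers q) _)
  have hab₀c : Commute a b₀ := S.pair.comm _ hP a ha (mem_sup_right (mem_zpowers a)) b₀ hb₀Y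
    (hab₀ ▸ mul_mem (mem_sup_right (mem_zpowers a)) (mem_sup_left (mem_zpowers q)))
  have hqe : q = a * b₀ := by rw [← hab₀, ← mul_assoc, haa, one_mul]
  have hqq : q * q = 1 := by
    rw [hqe, mul_assoc, ← mul_assoc b₀, hab₀c.symm.eq, mul_assoc a,
      Involution.Dihedral.mul_self hb₀2, mul_one, haa]
  have hC : centralizer {q} ≠ ⊤ := hqe ▸ S.centralizer_mul_ne_top ha hb₀Y ha2 hb₀2 hab₀c
  set s := r * r with hs
  have hso : Odd (orderOf s) := by
    refine (odd_two_mul_add_one j).of_dvd_nat (orderOf_dvd_of_pow_eq_one ?_)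
    rw [hs, (Commute.refl r).mul_pow, ← hq, hqq]
  have hsq : Commute s q := by
    rw [hs, hq]
    exact ((Commute.refl r).mul_left (Commute.refl r)).pow_right _
  have has : a * s * a⁻¹ = s⁻¹ := by
    rw [hs, ← pow_two]; exact Involution.Dihedral.conj_pow har 2
  have hb₀s : b₀ * s * b₀⁻¹ = s⁻¹ := by
    rw [← hab₀, show a * q * s * (a * q)⁻¹ = a * (q * s * q⁻¹) * a⁻¹ by group, hsq.symm.eq,
      mul_inv_cancel_right, has]
  have haqc : Commute a q := hqe ▸ (Commute.refl a).mul_right hab₀c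
  have hb₀q : Commute b₀ q := hqe ▸ hab₀c.symm.mul_right (Commute.refl b₀)
  have hsoC : s ∈ oC q := S.mem_oc_of_inverted hC ha (mem_centralizer_singleton.2 haqc) hb₀Y
    (mem_centralizer_singleton.2 hb₀q) (mem_centralizer_singleton.2 hsq) hso has hb₀s
  have hsP : s ∈ P := by
    refine (sq_mem_iff hso).1 (hPc b₀ hb₀Y hb₀2 hab₀c ?_)
    rw [← hqe]
    have h2 : a * s⁻¹ * a⁻¹ = s := by
      have := congrArg (·⁻¹) has
      simpa [mul_assoc] using this
    have : ⁅s, a⁆ = s * s := by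
      rw [commutatorElement_def, mul_assoc, mul_assoc, ← mul_assoc a, h2]
    exact this ▸ commutator_mem_commutator hsoC (mem_zpowers a)
  have hpow : ∀ i, r ^ (2 * i) ∈ P := fun i => by
    rw [pow_mul, pow_two]; exact pow_mem hsP i
  refine ⟨?_, hsP⟩
  obtain ⟨i, hi⟩ : ∃ i, j = 2 * i ∨ j + (2 * j + 1) = 2 * i := by
    rcases Nat.even_or_odd j with ⟨i, hi⟩ | ⟨i, hi⟩
    · exact ⟨i, .inl (by omega)⟩
    · exact ⟨i + j + 1, .inr (by omega)⟩
  -- `b` is conjugate to `b₀` by an element of `P`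
  have hbe : b = r ^ (2 * i) * b₀ * (r ^ (2 * i))⁻¹ := by
    rcases hi with hi | hi
    · rw [← hi, hb₀c]; group
    · rw [← hi, pow_add, ← hq, mul_inv_rev,
        show r ^ j * q * b₀ * (q⁻¹ * (r ^ j)⁻¹) = r ^ j * (q * b₀ * q⁻¹) * (r ^ j)⁻¹ by group,
        hb₀q.symm.eq, mul_inv_cancel_right, hb₀c]
      group
  rw [hbe]
  exact mul_mem (mul_mem (Subgroup.le_normalizer (hpow i)) (hPn b₀ hb₀Y hb₀2 hab₀c))
    (inv_mem (Subgroup.le_normalizer (hpow i)))

/-- All involutions of the two classes commute. -/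
theorem commute_involutions (S : Setting X Y) {a b : G} (ha : a ∈ X) (hb : b ∈ Y)
    (ha2 : orderOf a = 2) (hb2 : orderOf b = 2) : Commute a b := by
  obtain ⟨P, hPodd, hPn, hPc⟩ := S.exists_signalizer ha ha2
  set J := closure {y | y ∈ Y ∧ orderOf y = 2} with hJ
  haveI : J.Normal := normal_closure_of_conj fun g y hy =>
    ⟨S.pair.conj_right g y hy.1, (Involution.Dihedral.orderOf_conj g y).trans hy.2⟩
  have hJP : J ≤ normalizer (P : Set G) :=
    (closure_le _).2 fun y hy => (S.normalizes ha hy.1 ha2 hy.2 hPn hPc).1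
  have hsq := (S.normalizes ha hb ha2 hb2 hPn hPc).2
  have hbJ : b ∈ J := subset_closure ⟨hb, hb2⟩
  have hmem : a * b * (a * b) ∈ J ⊓ P := by
    refine mem_inf.2 ⟨?_, hsq⟩
    rw [show a * b * (a * b) = (a * b * a⁻¹) * (a * a) * b by group,
      Involution.Dihedral.mul_self ha2, mul_one]
    exact mul_mem ((‹J.Normal›).conj_mem b hbJ a) hbJ
  rw [eq_bot_of_odd S.core inf_le_left ((le_inf Subgroup.le_normalizer hJP).trans
    inf_normalizer_le_normalizer_inf) (odd_of_le inf_le_right hPodd), Subgroup.mem_bot] at hmem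
  have h1 := eq_inv_of_mul_eq_one_left hmem
  rwa [mul_inv_rev, Involution.Dihedral.inv_eq ha2, Involution.Dihedral.inv_eq hb2] at h1

theorem commute_of_involution_centre (S : Setting X Y) {z : G} (hz : z ∈ X) (hz2 : orderOf z = 2)
    {T : Set G} (hT : ∀ g : G, ∀ y ∈ T, g * y * g⁻¹ ∈ T) (hTY : T ⊆ Y)
    (hTz : ∀ y ∈ T, Commute y z) {x y : G} (hx : x ∈ X) (hxz : Commute x z) (hy : y ∈ T) :
    Commute x y := by
  set J := closure T with hJ
  haveI : J.Normal := normal_closure_of_conj hT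
  have hJC : J ≤ centralizer {z} :=
    (closure_le _).2 fun w hw => mem_centralizer_singleton.2 (hTz w hw)
  have h1 : ⁅x, y⁆ ∈ J ⊓ oC z := by
    refine mem_inf.2 ⟨?_, S.locl _ (S.noncentral_left z hz hz2) x hx
      (mem_centralizer_singleton.2 hxz) y (hTY hy) (mem_centralizer_singleton.2 (hTz y hy))⟩
    rw [commutatorElement_def]
    exact mul_mem ((‹J.Normal›).conj_mem y (subset_closure hy) x)
      (inv_mem (subset_closure hy))
  rw [eq_bot_of_odd S.core inf_le_left ((le_inf Subgroup.le_normalizer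
    (hJC.trans (le_normalizer_oC z))).trans inf_normalizer_le_normalizer_inf)
    (odd_of_le inf_le_right (odd_card_oc _)), Subgroup.mem_bot] at h1
  exact commutatorElement_eq_one_iff_commute.1 h1

theorem exists_involution_pow (S : Setting X Y) {x : G} (hx : x ∈ X) (hx1 : x ≠ 1) :
    ∃ z, z ∈ X ∧ orderOf z = 2 ∧ Commute x z := by
  obtain ⟨n, hn⟩ := S.pair.exists_orderOf hx
  rcases n with _ | n
  · exact absurd (orderOf_eq_one_iff.1 (by simpa using hn)) hx1
  · refine ⟨x ^ 2 ^ n, S.pair.pow_mem hx _, ?_, Commute.self_pow x _⟩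
    rw [orderOf_pow' x (by positivity), hn, pow_succ, Nat.gcd_mul_right_left,
      Nat.mul_div_cancel_left _ (by positivity)]

/-- Everything commutes. -/
theorem commute_all (S : Setting X Y) {x y : G} (hx : x ∈ X) (hy : y ∈ Y) : Commute x y := by
  by_cases hx1 : x = 1
  · subst hx1; exact Commute.one_left y
  obtain ⟨z, hzX, hz2, hxz⟩ := S.exists_involution_pow hx hx1
  refine S.commute_of_involution_centre hzX hz2 (T := Y) S.pair.conj_right le_rfl
    (fun w hw => ?_) hx hxz hy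
  by_cases hw1 : w = 1
  · subst hw1; exact Commute.one_left z
  obtain ⟨c, hcY, hc2, hwc⟩ := S.symm.exists_involution_pow hw hw1
  exact S.symm.commute_of_involution_centre hcY hc2 (T := {x | x ∈ X ∧ orderOf x = 2})
    (fun g v hv => ⟨S.pair.conj_left g v hv.1, (Involution.Dihedral.orderOf_conj g v).trans hv.2⟩)
    (fun v hv => hv.1) (fun v hv => S.commute_involutions hv.1 hcY hv.2 hc2) hw hwc ⟨hzX, hz2⟩

end Setting

/-- A central involution of `X`. -/
theorem commute_of_central {X Y : Set G} (h : Pair X Y) (hO : Cfsg.oddCore G = ⊥) {z : G}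
    (hz : z ∈ X) (hz2 : orderOf z = 2) (hzc : centralizer {z} = ⊤)
    (ih : ∀ (Q : Type u) [Group Q] [Finite Q] (X' Y' : Set Q), Nat.card Q < Nat.card G →
      Pair X' Y' → ∀ x ∈ X', ∀ y ∈ Y', ⁅x, y⁆ ∈ Cfsg.oddCore Q)
    {x y : G} (hx : x ∈ X) (hy : y ∈ Y) : Commute x y := by
  haveI := Fact.mk Nat.prime_two
  have hzz : ∀ g : G, Commute g z := fun g => mem_centralizer_singleton.1 (hzc ▸ mem_top g)
  have hcen : z ∈ Subgroup.center G := Subgroup.mem_center_iff.2 fun g => hzz g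
  haveI hN : (zpowers z).Normal := ⟨fun n hn g => by
    obtain ⟨i, rfl⟩ := mem_zpowers_iff.1 hn
    rw [((hzz g).zpow_right i).eq, mul_inv_cancel_right]
    exact zpow_mem (mem_zpowers z) i⟩
  have hzz2 := Involution.Dihedral.mul_self hz2
  set π := QuotientGroup.mk' (zpowers z) with hπdef
  have hlt : Nat.card (G ⧸ zpowers z) < Nat.card G := by
    rw [(zpowers z).card_eq_card_quotient_mul_card_subgroup, Nat.card_zpowers, hz2]
    have : 0 < Nat.card (G ⧸ zpowers z) := Nat.card_pos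
    omega
  have h' := h.map π (QuotientGroup.mk'_surjective _) fun n hn _ => by
    rw [QuotientGroup.ker_mk'] at hn
    rcases eq_one_or_of_mem_zpowers hzz2 hn with rfl | rfl
    · exact h.one_left
    · exact hz
  have h1 := ih _ _ _ hlt h' _ ⟨x, hx, rfl⟩ _ ⟨y, hy, rfl⟩
  rw [Involution.ZStar.oddCore_quotient_central hO hz2 hcen, Subgroup.mem_bot,
    ← map_commutatorElement] at h1
  have h2 : ⁅x, y⁆ ∈ zpowers z := (QuotientGroup.eq_one_iff _).1 h1
  have hyn : y ∈ normalizer ((zpowers x ⊔ zpowers z : Subgroup G) : Set G) := by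
    refine mem_normalizer_of_conj (conj_mem_sup (fun v hv => ?_) fun v hv => ?_)
    · obtain ⟨i, rfl⟩ := mem_zpowers_iff.1 hv
      rw [← conj_zpow]
      refine zpow_mem ?_ i
      have h3 : y * x * y⁻¹ = ⁅x, y⁆⁻¹ * x := by simp [commutatorElement_def, mul_assoc]
      rw [h3]
      exact mul_mem (inv_mem (mem_sup_right h2)) (mem_sup_left (mem_zpowers x))
    · exact mem_sup_right (hN.conj_mem v hv y)
  have hP := isPGroup_sup_zpowers (isPGroup_sup_zpowers (h.two_left x hx) (h.two_left z hz)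
    (mem_normalizer_of_commute fun v _ => (hzz v).symm)) (h.two_right y hy) hyn
  exact h.comm _ hP x hx (mem_sup_left (mem_sup_left (mem_zpowers x))) y hy
    (mem_sup_right (mem_zpowers y))

theorem commutator_mem_aux (n : ℕ) : ∀ (G : Type u) [Group G] [Finite G] (X Y : Set G),
    Nat.card G = n → Pair X Y → ∀ x ∈ X, ∀ y ∈ Y, ⁅x, y⁆ ∈ Cfsg.oddCore G := by
  induction n using Nat.strong_induction_on with
  | _ n ih =>
  intro G _ _ X Y hn h x hx y hy
  subst hn
  have ih' : ∀ (Q : Type u) [Group Q] [Finite Q] (X' Y' : Set Q), Nat.card Q < Nat.card G →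
      Pair X' Y' → ∀ x ∈ X', ∀ y ∈ Y', ⁅x, y⁆ ∈ Cfsg.oddCore Q :=
    fun Q _ _ X' Y' hlt h' => ih _ hlt Q X' Y' rfl h'
  haveI := Involution.ZStar.oddCore_normal (G := G)
  by_cases hO : Cfsg.oddCore G = ⊥
  · suffices Commute x y by
      rw [this.commutator_eq]; exact one_mem _
    by_cases hX : ∃ z ∈ X, orderOf z = 2 ∧ centralizer {z} = ⊤
    · obtain ⟨z, hz, hz2, hzc⟩ := hX
      exact commute_of_central h hO hz hz2 hzc ih' hx hy
    by_cases hY : ∃ z ∈ Y, orderOf z = 2 ∧ centralizer {z} = ⊤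
    · obtain ⟨z, hz, hz2, hzc⟩ := hY
      exact (commute_of_central h.symm hO hz hz2 hzc ih' hy hx).symm
    push_neg at hX hY
    refine Setting.commute_all ⟨h, hO, fun H hH a ha haH b hb hbH => ?_, hX, hY⟩ hx hy
    have hlt : Nat.card H < Nat.card G :=
      lt_of_le_of_ne (Nat.le_of_dvd Nat.card_pos H.card_subgroup_dvd_card)
        fun e => hH (eq_top_of_card_eq H e)
    have := mem_oc_coe.2 (ih' H _ _ hlt (h.subgroup H) ⟨a, haH⟩ ha ⟨b, hbH⟩ hb)
    simpa [commutatorElement_def] using this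
  · set O := Cfsg.oddCore G with hOdef
    have hlt : Nat.card (G ⧸ O) < Nat.card G := by
      rw [O.card_eq_card_quotient_mul_card_subgroup]
      exact lt_mul_of_one_lt_right Nat.card_pos (O.one_lt_card_iff_ne_bot.2 hO)
    have h' := h.map (QuotientGroup.mk' O) (QuotientGroup.mk'_surjective O) fun v hv hv2 => by
      rw [QuotientGroup.ker_mk'] at hv
      haveI := Fact.mk Nat.prime_two
      obtain ⟨i, hi⟩ := hv2.exists_card_eq
      rw [Nat.card_zpowers] at hi
      have ho := Involution.ZStar.odd_orderOf_of_mem hv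
      rw [hi] at ho
      rcases i with _ | i
      · rw [pow_zero] at hi
        rw [orderOf_eq_one_iff.1 hi]; exact h.one_left
      · exact absurd ho (Nat.not_odd_iff_even.2 (even_iff_two_dvd.2 (dvd_pow_self 2 (by omega))))
    have h1 := ih' _ _ _ hlt h' _ ⟨x, hx, rfl⟩ _ ⟨y, hy, rfl⟩
    rw [Involution.ZStar.oddCore_quotient, Subgroup.mem_bot, ← map_commutatorElement] at h1
    exact (QuotientGroup.eq_one_iff _).1 h1

/-- **Product fusion**: the two classes of a pair commute modulo the odd core. -/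
theorem Pair.commutator_mem_oddCore (h : Pair X Y) {x y : G} (hx : x ∈ X) (hy : y ∈ Y) :
    ⁅x, y⁆ ∈ Cfsg.oddCore G :=
  commutator_mem_aux _ G X Y rfl h x hx y hy

end CfsgLib.LocalEven.ProductFusion
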