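import Cfsg.Prelude.Def_TwoFusion
import Cfsg.Agent.Lib.LocalEven.ProductFusion.Basic
import Cfsg.Agent.Lib.Involution.Basic

/-!
# Pairs of commuting fusion classes of 2-elements
-/

set_option autoImplicit false
set_option linter.unusedSectionVars false
set_option linter.style.haveILetI false

namespace CfsgLib.LocalEven.ProductFusion

open Subgroup
open scoped commutatorElement

variable {G : Type*} [Group G]

/-- Two conjugation invariant sets of 2-elements which cut out commuting, disjoint subgroups in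
every 2-subgroup. -/
structure Pair (X Y : Set G) : Prop where
  one_left : (1 : G) ∈ X
  one_right : (1 : G) ∈ Y
  conj_left : ∀ g : G, ∀ x ∈ X, g * x * g⁻¹ ∈ X
  conj_right : ∀ g : G, ∀ y ∈ Y, g * y * g⁻¹ ∈ Y
  two_left : ∀ x ∈ X, IsPGroup 2 (zpowers x)
  two_right : ∀ y ∈ Y, IsPGroup 2 (zpowers y)
  disjoint : ∀ x ∈ X, x ∈ Y → x = 1
  mul_left : ∀ P : Subgroup G, IsPGroup 2 P → ∀ x ∈ X, x ∈ P → ∀ x' ∈ X, x' ∈ P → x * x' ∈ X
  mul_right : ∀ P : Subgroup G, IsPGroup 2 P → ∀ y ∈ Y, y ∈ P → ∀ y' ∈ Y, y' ∈ P → y * y' ∈ Y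
  comm : ∀ P : Subgroup G, IsPGroup 2 P → ∀ x ∈ X, x ∈ P → ∀ y ∈ Y, y ∈ P → Commute x y

theorem Pair.symm {X Y : Set G} (h : Pair X Y) : Pair Y X :=
  ⟨h.one_right, h.one_left, h.conj_right, h.conj_left, h.two_right, h.two_left,
    fun x hx hy => h.disjoint x hy hx, h.mul_right, h.mul_left,
    fun P hP y hy hyP x hx hxP => (h.comm P hP x hx hxP y hy hyP).symm⟩

theorem Pair.pow_mem {X Y : Set G} (h : Pair X Y) {x : G} (hx : x ∈ X) : ∀ n : ℕ, x ^ n ∈ X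
  | 0 => by rw [pow_zero]; exact h.one_left
  | n + 1 => by
    rw [pow_succ]
    exact h.mul_left _ (h.two_left x hx) _ (h.pow_mem hx n)
      (Subgroup.pow_mem _ (mem_zpowers x) n) _ hx (mem_zpowers x)

theorem Pair.inv_mem [Finite G] {X Y : Set G} (h : Pair X Y) {x : G} (hx : x ∈ X) : x⁻¹ ∈ X := by
  have : x⁻¹ = x ^ (orderOf x - 1) := inv_eq_of_mul_eq_one_right (by
    rw [← pow_succ', Nat.sub_add_cancel (orderOf_pos x), pow_orderOf_eq_one])
  rw [this]; exact h.pow_mem hx _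

theorem Pair.conj_left' {X Y : Set G} (h : Pair X Y) (g : G) {x : G} (hx : x ∈ X) :
    g⁻¹ * x * g ∈ X := by
  simpa using h.conj_left g⁻¹ x hx

theorem Pair.exists_orderOf {X Y : Set G} (h : Pair X Y) {x : G} (hx : x ∈ X) :
    ∃ k : ℕ, orderOf x = 2 ^ k := by
  haveI := Fact.mk Nat.prime_two
  obtain ⟨k, hk⟩ := IsPGroup.iff_orderOf.1 (h.two_left x hx) ⟨x, mem_zpowers x⟩
  exact ⟨k, by rwa [← Subgroup.orderOf_coe] at hk⟩

/-- The pair cut out on a subgroup. -/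
theorem Pair.subgroup {X Y : Set G} (h : Pair X Y) (H : Subgroup G) :
    Pair {x : H | (x : G) ∈ X} {y : H | (y : G) ∈ Y} := by
  have hmap : ∀ P : Subgroup H, IsPGroup 2 P → IsPGroup 2 (P.map H.subtype) :=
    fun P hP => hP.map _
  have hz : ∀ x : H, IsPGroup 2 (zpowers (x : G)) → IsPGroup 2 (zpowers x) := fun x hx => by
    refine hx.of_injective ((H.subtype.comp (zpowers x).subtype).codRestrict (zpowers (x : G))
      fun z => ?_) ?_
    · obtain ⟨i, hi⟩ := mem_zpowers_iff.1 z.2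
      exact mem_zpowers_iff.2 ⟨i, by simp [← hi]⟩
    · intro a b hab
      exact Subtype.ext (Subtype.ext (congrArg (fun w : zpowers (x : G) => (w : G)) hab))
  exact ⟨h.one_left, h.one_right, fun g x hx => h.conj_left g x hx,
    fun g x hx => h.conj_right g x hx, fun x hx => hz x (h.two_left x hx),
    fun x hx => hz x (h.two_right x hx), fun x hx hy => Subtype.ext (h.disjoint x hx hy),
    fun P hP x hx hxP x' hx' hxP' => h.mul_left _ (hmap P hP) x hx ⟨x, hxP, rfl⟩ x' hx'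
      ⟨x', hxP', rfl⟩,
    fun P hP x hx hxP x' hx' hxP' => h.mul_right _ (hmap P hP) x hx ⟨x, hxP, rfl⟩ x' hx'
      ⟨x', hxP', rfl⟩,
    fun P hP x hx hxP y hy hyP => Subtype.ext (h.comm _ (hmap P hP) x hx ⟨x, hxP, rfl⟩ y hy
      ⟨y, hyP, rfl⟩).eq⟩

variable [Finite G] {Q : Type*} [Group Q]

/-- A 2-subgroup of a quotient lifts to one containing, up to conjugation by the kernel, every
2-element above it. -/
theorem exists_lift (f : G →* Q) (hf : Function.Surjective f) {P : Subgroup Q}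
    (hP : IsPGroup 2 P) :
    ∃ T : Subgroup G, IsPGroup 2 T ∧ ∀ x : G, IsPGroup 2 (zpowers x) → f x ∈ P →
      ∃ n ∈ f.ker, n * x * n⁻¹ ∈ T := by
  haveI := Fact.mk Nat.prime_two
  set M := P.comap f
  let f' : M →* P := (f.comp M.subtype).codRestrict P fun m => m.2
  have hf' : Function.Surjective f' := fun q => by
    obtain ⟨m, hm⟩ := hf q
    exact ⟨⟨m, by show f m ∈ P; rw [hm]; exact q.2⟩, Subtype.ext hm⟩
  let T : Sylow 2 M := default
  haveI : Finite Q := Finite.of_surjective f hf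
  have htop : (T : Subgroup M).map f' = ⊤ := by
    obtain ⟨n, hn⟩ := hP.exists_card_eq
    have hc := (T.mapSurjective hf').card_eq_multiplicity
    rw [hn, Nat.Prime.factorization_pow Nat.prime_two, Finsupp.single_eq_same, ← hn] at hc
    rw [← Sylow.coe_mapSurjective hf' T]
    exact eq_top_of_card_eq _ hc
  refine ⟨(T : Subgroup M).map M.subtype, T.2.map _, fun x hx hxP => ?_⟩
  obtain ⟨m, hm⟩ := Involution.Basic.exists_conj_le T
    ((hx.to_le le_rfl).of_equiv (subgroupOfEquivOfLe (show zpowers x ≤ M from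
      zpowers_le.2 hxP)).symm)
  obtain ⟨t, ht, hte⟩ : f' m ∈ (T : Subgroup M).map f' := by rw [htop]; exact mem_top _
  refine ⟨(t : G)⁻¹ * m, ?_, ⟨t⁻¹ * (m * ⟨x, hxP⟩ * m⁻¹) * t, ?_, ?_⟩⟩
  · show f ((t : G)⁻¹ * m) = 1
    rw [map_mul, map_inv, show f t = f m from congrArg Subtype.val hte, inv_mul_cancel]
  · exact mul_mem (mul_mem (inv_mem ht) (hm ⟨x, hxP⟩ (mem_subgroupOf.2 (mem_zpowers x)))) ht
  · simp [mul_assoc]

/-- The image of a pair in a quotient whose kernel has all its 2-elements in `X`. -/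
theorem Pair.map {X Y : Set G} (h : Pair X Y) (f : G →* Q) (hf : Function.Surjective f)
    (hN : ∀ n ∈ f.ker, IsPGroup 2 (zpowers n) → n ∈ X) : Pair (f '' X) (f '' Y) := by
  have hlift : ∀ T : Subgroup G, ∀ Z : Set G, (∀ g, ∀ z ∈ Z, g * z * g⁻¹ ∈ Z) →
      (∀ z ∈ Z, IsPGroup 2 (zpowers z)) → ∀ P : Subgroup Q,
      (∀ x : G, IsPGroup 2 (zpowers x) → f x ∈ P → ∃ n ∈ f.ker, n * x * n⁻¹ ∈ T) →
      ∀ q ∈ f '' Z, q ∈ P → ∃ z ∈ Z, z ∈ T ∧ f z = q := by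
    rintro T Z hZ hZ2 P hT q ⟨x, hx, rfl⟩ hq
    obtain ⟨n, hn, hnT⟩ := hT x (hZ2 x hx) hq
    exact ⟨_, hZ n x hx, hnT, by simp [(MonoidHom.mem_ker).1 hn]⟩
  have hconj : ∀ Z : Set G, (∀ g, ∀ z ∈ Z, g * z * g⁻¹ ∈ Z) →
      ∀ q : Q, ∀ w ∈ f '' Z, q * w * q⁻¹ ∈ f '' Z := by
    rintro Z hZ q _ ⟨x, hx, rfl⟩
    obtain ⟨g, rfl⟩ := hf q
    exact ⟨_, hZ g x hx, by simp⟩
  have htwo : ∀ Z : Set G, (∀ z ∈ Z, IsPGroup 2 (zpowers z)) →
      ∀ w ∈ f '' Z, IsPGroup 2 (zpowers w) := by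
    rintro Z hZ _ ⟨x, hx, rfl⟩
    rw [← MonoidHom.map_zpowers]
    exact (hZ x hx).map f
  refine ⟨⟨1, h.one_left, map_one f⟩, ⟨1, h.one_right, map_one f⟩, hconj X h.conj_left,
    hconj Y h.conj_right, htwo X h.two_left, htwo Y h.two_right, fun q hqX hqY => ?_,
    fun P hP q hq hqP q' hq' hqP' => ?_, fun P hP q hq hqP q' hq' hqP' => ?_,
    fun P hP q hq hqP q' hq' hqP' => ?_⟩
  · obtain ⟨T, hT, hT'⟩ := exists_lift f hf (htwo X h.two_left q hqX)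
    obtain ⟨x, hx, hxT, rfl⟩ := hlift T X h.conj_left h.two_left _ hT' q hqX (mem_zpowers q)
    obtain ⟨y, hy, hyT, he⟩ :=
      hlift T Y h.conj_right h.two_right _ hT' (f x) hqY (mem_zpowers _)
    have hk : x * y⁻¹ ∈ f.ker := by simp [MonoidHom.mem_ker, he]
    have hkT : x * y⁻¹ ∈ T := mul_mem hxT (T.inv_mem hyT)
    have hkX := hN _ hk (hT.to_le (zpowers_le.2 hkT))
    have hyX : y ∈ X := by
      have := h.mul_left T hT _ (h.inv_mem hkX) (T.inv_mem hkT) x hx hxT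
      simpa using this
    rw [← he, h.disjoint y hyX hy, map_one]
  · obtain ⟨T, hT, hT'⟩ := exists_lift f hf hP
    obtain ⟨x, hx, hxT, rfl⟩ := hlift T X h.conj_left h.two_left _ hT' q hq hqP
    obtain ⟨x', hx', hxT', rfl⟩ := hlift T X h.conj_left h.two_left _ hT' q' hq' hqP'
    exact ⟨_, h.mul_left T hT x hx hxT x' hx' hxT', map_mul f x x'⟩
  · obtain ⟨T, hT, hT'⟩ := exists_lift f hf hP
    obtain ⟨x, hx, hxT, rfl⟩ := hlift T Y h.conj_right h.two_right _ hT' q hq hqP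
    obtain ⟨x', hx', hxT', rfl⟩ := hlift T Y h.conj_right h.two_right _ hT' q' hq' hqP'
    exact ⟨_, h.mul_right T hT x hx hxT x' hx' hxT', map_mul f x x'⟩
  · obtain ⟨T, hT, hT'⟩ := exists_lift f hf hP
    obtain ⟨x, hx, hxT, rfl⟩ := hlift T X h.conj_left h.two_left _ hT' q hq hqP
    obtain ⟨y, hy, hyT, rfl⟩ := hlift T Y h.conj_right h.two_right _ hT' q' hq' hqP'
    exact (h.comm T hT x hx hxT y hy hyT).map f

/-- Commuting, disjoint strongly closed subgroups give a pair. -/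
theorem Pair.of_stronglyClosed (S : Sylow 2 G) {S₁ S₂ : Subgroup G}
    (h₁ : Cfsg.IsStronglyClosed S₁ (S : Subgroup G))
    (h₂ : Cfsg.IsStronglyClosed S₂ (S : Subgroup G))
    (hc : ∀ a ∈ S₁, ∀ b ∈ S₂, a * b = b * a) (hd : S₁ ⊓ S₂ = ⊥) :
    Pair {x : G | ∃ g : G, g * x * g⁻¹ ∈ S₁} {y : G | ∃ g : G, g * y * g⁻¹ ∈ S₂} := by
  haveI := Fact.mk Nat.prime_two
  have key : ∀ T : Subgroup G, Cfsg.IsStronglyClosed T (S : Subgroup G) → ∀ h x : G,
      (∃ g : G, g * x * g⁻¹ ∈ T) → h * x * h⁻¹ ∈ S → h * x * h⁻¹ ∈ T := by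
    rintro T hT h x ⟨g, hg⟩ hx
    have e : (h * g⁻¹) * (g * x * g⁻¹) * (h * g⁻¹)⁻¹ = h * x * h⁻¹ := by group
    rw [← e] at hx ⊢
    exact hT.2 _ hg _ hx
  have hconj : ∀ T : Subgroup G, ∀ k x : G, (∃ g : G, g * x * g⁻¹ ∈ T) →
      ∃ g : G, g * (k * x * k⁻¹) * g⁻¹ ∈ T := by
    rintro T k x ⟨g, hg⟩
    exact ⟨g * k⁻¹, by
      rwa [show g * k⁻¹ * (k * x * k⁻¹) * (g * k⁻¹)⁻¹ = g * x * g⁻¹ by group]⟩
  have htwo : ∀ T : Subgroup G, T ≤ (S : Subgroup G) → ∀ x : G, (∃ g : G, g * x * g⁻¹ ∈ T) →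
      IsPGroup 2 (zpowers x) := by
    rintro T hT x ⟨g, hg⟩
    have h1 : IsPGroup 2 ((zpowers x).map (MulAut.conj g).toMonoidHom) := by
      rw [MonoidHom.map_zpowers]
      exact S.2.to_le (zpowers_le.2 (hT hg))
    exact h1.of_equiv ((zpowers x).equivMapOfInjective _ (MulAut.conj g).injective).symm
  have hmul : ∀ T : Subgroup G, Cfsg.IsStronglyClosed T (S : Subgroup G) →
      ∀ P : Subgroup G, IsPGroup 2 P → ∀ x : G, (∃ g : G, g * x * g⁻¹ ∈ T) → x ∈ P →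
      ∀ x' : G, (∃ g : G, g * x' * g⁻¹ ∈ T) → x' ∈ P → ∃ g : G, g * (x * x') * g⁻¹ ∈ T := by
    intro T hT P hP x hx hxP x' hx' hxP'
    obtain ⟨h, hh⟩ := Involution.Basic.exists_conj_le S hP
    refine ⟨h, ?_⟩
    rw [show h * (x * x') * h⁻¹ = h * x * h⁻¹ * (h * x' * h⁻¹) by group]
    exact mul_mem (key T hT h x hx (hh x hxP)) (key T hT h x' hx' (hh x' hxP'))
  refine ⟨⟨1, by simp⟩, ⟨1, by simp⟩, fun g x => hconj S₁ g x, fun g x => hconj S₂ g x,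
    htwo S₁ h₁.1, htwo S₂ h₂.1, fun x hx hy => ?_, hmul S₁ h₁, hmul S₂ h₂,
    fun P hP x hx hxP y hy hyP => ?_⟩
  · obtain ⟨h, hh⟩ := Involution.Basic.exists_conj_le S (htwo S₁ h₁.1 x hx)
    have h3 : h * x * h⁻¹ ∈ S₁ ⊓ S₂ := mem_inf.2
      ⟨key S₁ h₁ h x hx (hh x (mem_zpowers x)), key S₂ h₂ h x hy (hh x (mem_zpowers x))⟩
    rw [hd, mem_bot, conj_eq_one_iff] at h3
    exact h3
  · obtain ⟨h, hh⟩ := Involution.Basic.exists_conj_le S hP
    have h3 : Commute (h * x * h⁻¹) (h * y * h⁻¹) :=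
      hc _ (key S₁ h₁ h x hx (hh x hxP)) _ (key S₂ h₂ h y hy (hh y hyP))
    have h4 := h3.map (MulAut.conj h⁻¹).toMonoidHom
    simpa [mul_assoc] using h4

end CfsgLib.LocalEven.ProductFusion
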